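import Cfsg.Agent.Lib.ClassesSp.Count

/-!
The numerical bound `5 · kA q n n ≤ 54 qⁿ` for `q ≥ 3`.
-/

set_option autoImplicit false

namespace Cfsg.Agent.Lib.ClassesSp

/-- The weighted series is bounded by `(1+y)⁴/(1-qy²)`. -/
theorem ww_series {q : ℕ} {y : ℝ} (hy : 0 ≤ y) (hqy : (q : ℝ) * y ^ 2 < 1) :
    ∀ K, ∑ d ∈ Finset.range K, (ww q d : ℝ) * y ^ d ≤ (1 + y) ^ 4 / (1 - q * y ^ 2) := by
  set R := (1 + y) ^ 4 / (1 - q * y ^ 2) with hR
  have h1 : 0 < 1 - (q : ℝ) * y ^ 2 := by linarith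
  have hR1 : 1 + 4 * y ≤ R := by
    rw [hR, le_div_iff₀ h1]
    have : 0 ≤ (q : ℝ) * y ^ 2 := by positivity
    nlinarith [mul_nonneg hy hy, mul_nonneg (mul_nonneg hy hy) hy, mul_nonneg (mul_nonneg hy hy) (mul_nonneg hy hy)]
  have hbin : ∀ K, ∑ d ∈ Finset.range K, ((Nat.choose 4 d : ℕ) : ℝ) * y ^ d ≤ (1 + y) ^ 4 := by
    intro K
    have e : (1 + y) ^ 4 = ∑ d ∈ Finset.range 5, ((Nat.choose 4 d : ℕ) : ℝ) * y ^ d := by
      rw [add_comm, add_pow]
      exact Finset.sum_congr rfl fun d _ => by rw [one_pow, mul_one, mul_comm]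
    rw [e]
    calc _ ≤ ∑ d ∈ Finset.range (max K 5), ((Nat.choose 4 d : ℕ) : ℝ) * y ^ d :=
          Finset.sum_le_sum_of_subset_of_nonneg (Finset.range_mono (le_max_left _ _)) fun _ _ _ => by positivity
      _ = _ := by
          refine (Finset.sum_subset (Finset.range_mono (le_max_right _ _)) fun d _ hd => ?_).symm
          rw [Nat.choose_eq_zero_of_lt (by simp at hd; omega)]; simp
  intro K
  induction K using Nat.strong_induction_on with
  | _ K ih =>
    match K with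
    | 0 => simp only [Finset.sum_range_zero]; linarith
    | 1 => simp [ww]; linarith
    | K + 2 =>
      have h := ih K (by omega)
      have hc := hbin (K + 2)
      rw [Finset.sum_range_succ', Finset.sum_range_succ'] at hc ⊢
      have e : ∀ d, (ww q (d + 1 + 1) : ℝ) * y ^ (d + 1 + 1) =
          (q : ℝ) * y ^ 2 * ((ww q d : ℝ) * y ^ d) + ((Nat.choose 4 (d + 1 + 1) : ℕ) : ℝ) * y ^ (d + 1 + 1) := by
        intro d
        rw [show d + 1 + 1 = d + 2 from rfl, ww]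
        push_cast
        ring
      simp only [e, Finset.sum_add_distrib, ← Finset.mul_sum, zero_add]
      rw [Nat.choose_one_right, Nat.choose_zero_right] at hc
      simp only [ww, zero_add] at hc ⊢
      push_cast at hc ⊢
      have h' : (q : ℝ) * y ^ 2 * ∑ d ∈ Finset.range K, (ww q d : ℝ) * y ^ d ≤ (q : ℝ) * y ^ 2 * R :=
        mul_le_mul_of_nonneg_left h (by positivity)
      have hfix : (q : ℝ) * y ^ 2 * R + (1 + y) ^ 4 = R := by
        rw [hR]; field_simp; ring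
      simp only [pow_zero, mul_one, pow_one] at hc ⊢
      linarith

theorem geom_le {z : ℝ} (h0 : 0 ≤ z) (h1 : z < 1) (K : ℕ) : ∑ j ∈ Finset.range K, z ^ j ≤ 1 / (1 - z) := by
  rw [le_div_iff₀ (by linarith), geom_sum_mul_neg]
  linarith [pow_nonneg h0 K]

/-- The growth constants. -/
noncomputable def cc : ℕ → ℝ
  | 0 => 1
  | I + 1 => if I = 0 then (4 / 3) ^ 4 / (1 - 1 / 3)
      else cc I * (1 + (1 / 3) ^ (I + 1)) ^ 4 / ((1 - (1 / 3) ^ (2 * I + 1)) * (1 - (1 / 3) ^ (2 * I)))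

theorem cc_ge_one : ∀ I, 1 ≤ cc I
  | 0 => le_refl _
  | I + 1 => by
    rw [cc]
    split_ifs with h
    · norm_num
    · have h1 : (0 : ℝ) < (1 / 3) ^ (2 * I + 1) := by positivity
      have h2 : (0 : ℝ) < (1 / 3) ^ (2 * I) := by positivity
      have h3 : ((1 : ℝ) / 3) ^ (2 * I + 1) < 1 := pow_lt_one₀ (by norm_num) (by norm_num) (by omega)
      have h4 : ((1 : ℝ) / 3) ^ (2 * I) < 1 := pow_lt_one₀ (by norm_num) (by norm_num) (by omega)
      have h5 : (1 : ℝ) ≤ (1 + (1 / 3) ^ (I + 1)) ^ 4 := one_le_pow₀ (by linarith [pow_pos (show (0:ℝ) < 1 / 3 by norm_num) (I + 1)])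
      rw [le_div_iff₀ (mul_pos (by linarith) (by linarith)), one_mul]
      have := cc_ge_one I
      have : (1 - ((1 : ℝ) / 3) ^ (2 * I + 1)) * (1 - (1 / 3) ^ (2 * I)) ≤ 1 :=
        mul_le_one₀ (by linarith) (by linarith) (by linarith)
      nlinarith

variable {q : ℕ}

theorem pow_sub_eq (hq : 0 < q) {n a : ℕ} (h : a ≤ n) :
    ((q : ℝ)) ^ (n - a) = (q : ℝ) ^ n * (q : ℝ)⁻¹ ^ a := by
  have hq0 : (q : ℝ) ≠ 0 := by exact_mod_cast hq.ne'
  rw [pow_sub₀ _ hq0 h, inv_pow]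

theorem kB_le (hq : 3 ≤ q) {I : ℕ} {C : ℝ} (hC : 0 ≤ C) (hI : 1 ≤ I)
    (h : ∀ m, (kA q I m : ℝ) ≤ (q : ℝ) ^ m * C) (r : ℕ) :
    (kB q I r : ℝ) ≤ (q : ℝ) ^ r * (C / (1 - (1 / 3) ^ (2 * I))) := by
  have hx : (q : ℝ)⁻¹ ≤ 1 / 3 := by
    rw [one_div]; exact inv_anti₀ (by norm_num) (by exact_mod_cast hq)
  have hx0 : 0 ≤ (q : ℝ)⁻¹ := by positivity
  rw [kB]
  push_cast
  calc _ ≤ ∑ j ∈ Finset.range (r / (2 * I + 1) + 1), (q : ℝ) ^ r * C * ((1 / 3 : ℝ) ^ (2 * I)) ^ j := by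
        refine Finset.sum_le_sum fun j hj => ?_
        have hle : (2 * I + 1) * j ≤ r := by
          have := Finset.mem_range.1 hj
          rw [mul_comm]; exact (Nat.le_div_iff_mul_le (by omega)).1 (by omega)
        refine (mul_le_mul_of_nonneg_left (h _) (by positivity)).trans ?_
        rw [pow_sub_eq (by omega) hle]
        have e : (q : ℝ) ^ j * ((q : ℝ) ^ r * (q : ℝ)⁻¹ ^ ((2 * I + 1) * j) * C) =
            (q : ℝ) ^ r * C * ((q : ℝ)⁻¹ ^ (2 * I)) ^ j := by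
          rw [add_mul, one_mul, pow_add, ← pow_mul]
          have : (q : ℝ) ^ j * (q : ℝ)⁻¹ ^ j = 1 := by
            rw [← mul_pow, mul_inv_cancel₀ (by exact_mod_cast (by omega : q ≠ 0)), one_pow]
          linear_combination (q : ℝ) ^ r * C * (q : ℝ)⁻¹ ^ (2 * I * j) * this
        rw [e]
        exact mul_le_mul_of_nonneg_left (pow_le_pow_left₀ (by positivity) (pow_le_pow_left₀ hx0 hx _) _) (by positivity)
    _ ≤ _ := by
        rw [← Finset.mul_sum, mul_assoc]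
        refine mul_le_mul_of_nonneg_left ?_ (by positivity)
        rw [← mul_one_div C]
        exact mul_le_mul_of_nonneg_left
          (geom_le (by positivity) (pow_lt_one₀ (by norm_num) (by norm_num) (by omega)) _) hC

theorem kA_step (hq : 3 ≤ q) {I : ℕ} {C : ℝ} (hC : 0 ≤ C) (h : ∀ r, (kB q I r : ℝ) ≤ (q : ℝ) ^ r * C) (m : ℕ) :
    (kA q (I + 1) m : ℝ) ≤
      (q : ℝ) ^ m * (C * ((1 + (1 / 3) ^ (I + 1)) ^ 4 / (1 - (1 / 3) ^ (2 * I + 1)))) := by
  have hx : (q : ℝ)⁻¹ ≤ 1 / 3 := by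
    rw [one_div]; exact inv_anti₀ (by norm_num) (by exact_mod_cast hq)
  have hx0 : 0 ≤ (q : ℝ)⁻¹ := by positivity
  have hqne : (q : ℝ) ≠ 0 := by exact_mod_cast (by omega : q ≠ 0)
  set y := (q : ℝ)⁻¹ ^ (I + 1) with hy
  have hqy : (q : ℝ) * y ^ 2 = (q : ℝ)⁻¹ ^ (2 * I + 1) := by
    rw [hy, ← pow_mul, show (I + 1) * 2 = 2 * I + 1 + 1 by ring, pow_succ _ (2 * I + 1), mul_left_comm,
      mul_inv_cancel₀ hqne, mul_one]
  have h13 : ((1 : ℝ) / 3) ^ (2 * I + 1) < 1 := pow_lt_one₀ (by norm_num) (by norm_num) (by omega)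
  have hlt : (q : ℝ) * y ^ 2 ≤ (1 / 3) ^ (2 * I + 1) := hqy ▸ pow_le_pow_left₀ hx0 hx _
  rw [kA]
  push_cast
  calc _ ≤ ∑ d ∈ Finset.range (m / (I + 1) + 1), (q : ℝ) ^ m * C * ((ww q d : ℝ) * y ^ d) := by
        refine Finset.sum_le_sum fun d hd => ?_
        have hle : (I + 1) * d ≤ m := by
          have := Finset.mem_range.1 hd
          rw [mul_comm]; exact (Nat.le_div_iff_mul_le (by omega)).1 (by omega)
        refine (mul_le_mul_of_nonneg_left (h _) (by positivity)).trans (le_of_eq ?_)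
        rw [pow_sub_eq (by omega) hle, hy, ← pow_mul]
        ring
    _ ≤ _ := by
        rw [← Finset.mul_sum, mul_assoc]
        refine mul_le_mul_of_nonneg_left (mul_le_mul_of_nonneg_left
          ((ww_series (by positivity) (by linarith) _).trans ?_) hC) (by positivity)
        have hy' : y ≤ (1 / 3) ^ (I + 1) := pow_le_pow_left₀ hx0 hx _
        exact div_le_div₀ (by positivity) (pow_le_pow_left₀ (by positivity) (by linarith) _) (by linarith)
          (by linarith)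

theorem kA_le (hq : 3 ≤ q) : ∀ I, 1 ≤ I → ∀ m, (kA q I m : ℝ) ≤ (q : ℝ) ^ m * cc I := by
  intro I hI
  induction I, hI using Nat.le_induction with
  | base =>
    intro m
    have h0 : ∀ r, (kB q 0 r : ℝ) ≤ (q : ℝ) ^ r * 1 := fun r => by
      rw [kB, Nat.mul_zero, Nat.zero_add, Nat.div_one, Finset.sum_eq_single r]
      · simp [kA]
      · intro j hj hne
        have := Finset.mem_range.1 hj
        rw [kA, if_neg (by omega), mul_zero]
      · simp
    refine (kA_step hq zero_le_one h0 m).trans (le_of_eq ?_)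
    norm_num [cc]
  | succ I hI ih =>
    intro m
    have hlt : ((1 : ℝ) / 3) ^ (2 * I) < 1 := pow_lt_one₀ (by norm_num) (by norm_num) (by omega)
    have hc : 0 ≤ cc I / (1 - (1 / 3) ^ (2 * I)) := div_nonneg (zero_le_one.trans (cc_ge_one I)) (by linarith)
    refine (kA_step hq hc (kB_le hq (zero_le_one.trans (cc_ge_one I)) hI ih) m).trans (le_of_eq ?_)
    rw [cc, if_neg (by omega), div_mul_div_comm, mul_comm (1 - ((1 : ℝ) / 3) ^ (2 * I))]

theorem cc_le_aux : ∀ I, 7 ≤ I → cc I ≤ 10.75 * (1 - 3 * (1 / 3) ^ I) := by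
  intro I hI
  induction I, hI using Nat.le_induction with
  | base => norm_num [cc]
  | succ I hI ih =>
    set y : ℝ := (1 / 3) ^ I with hy
    have hy0 : 0 < y := by positivity
    have hy1 : y ≤ 1 / 2187 := by
      rw [hy]; exact (pow_le_pow_of_le_one (by norm_num) (by norm_num) hI).trans (le_of_eq (by norm_num))
    rw [cc, if_neg (by omega)]
    have e1 : ((1 : ℝ) / 3) ^ (I + 1) = y / 3 := by rw [pow_succ, ← hy]; ring
    have e2 : ((1 : ℝ) / 3) ^ (2 * I) = y ^ 2 := by rw [hy, ← pow_mul, mul_comm]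
    have e3 : ((1 : ℝ) / 3) ^ (2 * I + 1) = y ^ 2 / 3 := by rw [pow_succ, e2]; ring
    rw [e1, e2, e3]
    have hpos : 0 < (1 - y ^ 2 / 3) * (1 - y ^ 2) := by
      have : y ^ 2 ≤ 1 / 2 := by nlinarith
      exact mul_pos (by linarith) (by linarith)
    rw [div_le_iff₀ hpos]
    refine (mul_le_mul_of_nonneg_right ih (by positivity)).trans ?_
    rw [mul_assoc, mul_assoc (10.75 : ℝ)]
    refine mul_le_mul_of_nonneg_left ?_ (by norm_num)
    have h4 : (1 + y / 3) ^ 4 ≤ 1 + 4 / 3 * y + y ^ 2 := by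
      nlinarith [mul_le_mul_of_nonneg_left hy1 (sq_nonneg y), mul_le_mul_of_nonneg_left hy1 (pow_nonneg hy0.le 3)]
    have hden : 1 - 2 * y ^ 2 ≤ (1 - y ^ 2 / 3) * (1 - y ^ 2) := by nlinarith [pow_nonneg hy0.le 4]
    calc (1 - 3 * y) * (1 + y / 3) ^ 4 ≤ (1 - 3 * y) * (1 + 4 / 3 * y + y ^ 2) :=
          mul_le_mul_of_nonneg_left h4 (by linarith)
      _ ≤ (1 - 3 * (y / 3)) * (1 - 2 * y ^ 2) := by nlinarith
      _ ≤ _ := mul_le_mul_of_nonneg_left hden (by linarith)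

theorem cc_le (I : ℕ) : cc I ≤ 10.8 := by
  rcases Nat.lt_or_ge I 7 with h | h
  · interval_cases I <;> norm_num [cc]
  · refine (cc_le_aux I h).trans ?_
    have : (0 : ℝ) ≤ (1 / 3) ^ I := by positivity
    linarith

theorem kA_bound (hq : 3 ≤ q) {n : ℕ} (hn : 1 ≤ n) : 5 * kA q n n ≤ 54 * q ^ n := by
  have h : (kA q n n : ℝ) ≤ (q : ℝ) ^ n * 10.8 :=
    (kA_le hq n hn n).trans (mul_le_mul_of_nonneg_left (cc_le n) (by positivity))
  have : ((5 * kA q n n : ℕ) : ℝ) ≤ ((54 * q ^ n : ℕ) : ℝ) := by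
    push_cast
    linarith
  exact_mod_cast this

end Cfsg.Agent.Lib.ClassesSp
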