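import Cfsg.Agent.Lib.ClassesSp.Dual

/-!
Counting self-reciprocal polynomials with flags at the roots `±1`, and sequences of them.
-/

set_option autoImplicit false
set_option linter.unusedSectionVars false
set_option linter.style.haveILetI false

namespace Cfsg.Agent.Lib.ClassesSp

open Polynomial

universe u

variable {F : Type u} [Field F] [Fintype F]

/-- Monic self-reciprocal with non-zero constant term. -/
def SD (g : F[X]) : Prop := g.Monic ∧ g.coeff 0 ≠ 0 ∧ rdual g = g

theorem SD.coeff_sub {g : F[X]} (h : SD g) {i : ℕ} (hi : i ≤ g.natDegree) :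
    g.coeff (g.natDegree - i) = g.coeff 0 * g.coeff i := by
  have h1 := congrArg (fun f : F[X] => f.coeff i) h.2.2
  beta_reduce at h1
  rw [coeff_rdual g hi] at h1
  rw [← h1, ← mul_assoc, mul_inv_cancel₀ h.2.1, one_mul]

theorem SD.coeff_zero {g : F[X]} (h : SD g) : g.coeff 0 = 1 ∨ g.coeff 0 = -1 := by
  have h1 := h.coeff_sub (i := g.natDegree) le_rfl
  rw [Nat.sub_self, h.1.coeff_natDegree, mul_one] at h1
  have h2 := congrArg (fun f : F[X] => f.coeff 0) h.2.2
  beta_reduce at h2
  rw [rdual_coeff_zero h.1] at h2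
  refine mul_self_eq_one_iff.1 ?_
  conv_lhs => arg 1; rw [← h2]
  exact inv_mul_cancel₀ h.2.1

theorem SD.ext {g g' : F[X]} (h : SD g) (h' : SD g') {d : ℕ} (hd : g.natDegree = d)
    (hd' : g'.natDegree = d) (h0 : g.coeff 0 = g'.coeff 0)
    (he : ∀ i, 2 * (i + 1) ≤ d → g.coeff (i + 1) = g'.coeff (i + 1)) : g = g' := by
  have hlow : ∀ i, 2 * i ≤ d → g.coeff i = g'.coeff i := fun i hi => by
    cases i with
    | zero => exact h0
    | succ i => exact he i hi
  ext i
  rcases le_or_gt (2 * i) d with hi | hi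
  · exact hlow i hi
  rcases le_or_gt i d with hi' | hi'
  · have e := h.coeff_sub (i := d - i) (by omega)
    have e' := h'.coeff_sub (i := d - i) (by omega)
    rw [hd, Nat.sub_sub_self hi'] at e
    rw [hd', Nat.sub_sub_self hi'] at e'
    rw [e, e', h0, hlow _ (by omega)]
  · rw [coeff_eq_zero_of_natDegree_lt (by omega), coeff_eq_zero_of_natDegree_lt (by omega)]

theorem SD.middle (h2 : (2 : F) ≠ 0) {g : F[X]} (h : SD g) (h0 : g.coeff 0 = -1) {i : ℕ}
    (hi : 2 * i = g.natDegree) : g.coeff i = 0 := by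
  have h1 := h.coeff_sub (i := i) (by omega)
  rw [show g.natDegree - i = i by omega, h0] at h1
  exact (mul_eq_zero.1 (show (2 : F) * g.coeff i = 0 by linear_combination h1)).resolve_left h2

/-- The self-reciprocal polynomials of a degree. -/
abbrev SDT (F : Type u) [Field F] [Fintype F] (d : ℕ) : Type u := {g : F[X] // SD g ∧ g.natDegree = d}

/-- Their number. -/
def nb (q d : ℕ) : ℕ := if d = 0 then 1 else q ^ (d / 2) + q ^ ((d - 1) / 2)

/-- Those of even degree with constant term one. -/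
abbrev EP (F : Type u) [Field F] [Fintype F] (m : ℕ) : Type u :=
  {g : F[X] // SD g ∧ g.natDegree = 2 * m ∧ g.coeff 0 = 1}

theorem card_EP (m : ℕ) : Finite (EP F m) ∧ Nat.card (EP F m) ≤ Fintype.card F ^ m := by
  let f : EP F m → (Fin m → F) := fun g i => g.1.coeff ((i : ℕ) + 1)
  have hf : Function.Injective f := fun g g' h => Subtype.ext (g.2.1.ext g'.2.1 g.2.2.1 g'.2.2.1
    (g.2.2.2.trans g'.2.2.2.symm) fun i hi => congrFun h ⟨i, by omega⟩)
  refine ⟨Finite.of_injective f hf, (Nat.card_le_card_of_injective f hf).trans_eq ?_⟩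
  simp [Nat.card_eq_fintype_card]

theorem card_SDT (h2 : (2 : F) ≠ 0) (d : ℕ) :
    Finite (SDT F d) ∧ Nat.card (SDT F d) ≤ nb (Fintype.card F) d := by
  classical
  rcases Nat.eq_zero_or_pos d with rfl | hd
  · haveI : Subsingleton (SDT F 0) := ⟨fun a b => Subtype.ext (by
      rw [eq_one_of_monic_natDegree_zero a.2.1.1 a.2.2, eq_one_of_monic_natDegree_zero b.2.1.1 b.2.2])⟩
    exact ⟨inferInstance, by rw [nb, if_pos rfl]; exact Finite.card_le_one_iff_subsingleton.2 inferInstance⟩
  let f : SDT F d → (Fin (d / 2) → F) ⊕ (Fin ((d - 1) / 2) → F) := fun g =>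
    if g.1.coeff 0 = 1 then Sum.inl fun i => g.1.coeff ((i : ℕ) + 1)
    else Sum.inr fun i => g.1.coeff ((i : ℕ) + 1)
  have hf : Function.Injective f := by
    intro g g' h
    by_cases h1 : g.1.coeff 0 = 1 <;> by_cases h1' : g'.1.coeff 0 = 1 <;>
      simp only [f, h1, h1', if_true, if_false, Sum.inl.injEq, Sum.inr.injEq, reduceCtorEq] at h
    · exact Subtype.ext (g.2.1.ext g'.2.1 g.2.2 g'.2.2 (h1.trans h1'.symm) fun i hi => congrFun h ⟨i, by omega⟩)
    · have e := g.2.1.coeff_zero.resolve_left h1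
      have e' := g'.2.1.coeff_zero.resolve_left h1'
      refine Subtype.ext (g.2.1.ext g'.2.1 g.2.2 g'.2.2 (e.trans e'.symm) fun i hi => ?_)
      rcases eq_or_lt_of_le hi with hi' | hi'
      · rw [g.2.1.middle h2 e (by rw [g.2.2, hi']), g'.2.1.middle h2 e' (by rw [g'.2.2, hi'])]
      · exact congrFun h ⟨i, by omega⟩
  refine ⟨Finite.of_injective f hf, (Nat.card_le_card_of_injective f hf).trans_eq ?_⟩
  simp [Nat.card_eq_fintype_card, nb, hd.ne']

theorem rdual_X_sub_C {c : F} (hc : c * c = 1) : rdual (X - C c) = X - C c := by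
  have hne : c ≠ 0 := left_ne_zero_of_mul_eq_one hc
  have h0 : (X - C c : F[X]).coeff 0 ≠ 0 := by simp [hne]
  ext i
  rcases Nat.lt_or_ge i 2 with hi | hi
  · rw [coeff_rdual _ (by rw [natDegree_X_sub_C]; omega), natDegree_X_sub_C]
    interval_cases i
    · simp
      rw [inv_eq_iff_eq_inv]
      exact eq_inv_of_mul_eq_one_left (by first | exact hc | (rw [neg_mul_neg]; exact hc))
    · simp [inv_mul_cancel₀, hne]
  · rw [coeff_eq_zero_of_natDegree_lt (by rw [natDegree_rdual h0, natDegree_X_sub_C]; omega),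
      coeff_eq_zero_of_natDegree_lt (by rw [natDegree_X_sub_C]; omega)]

theorem SD.divRoot {g : F[X]} (h : SD g) {c : F} (hc : c * c = 1) (hroot : g.eval c = 0) :
    ∃ k : F[X], SD k ∧ g = (X - C c) * k ∧ k.natDegree + 1 = g.natDegree := by
  obtain ⟨k, hk⟩ := dvd_iff_isRoot.2 hroot
  have hm : k.Monic := (monic_X_sub_C c).of_mul_monic_left (hk ▸ h.1)
  have hk0 : k.coeff 0 ≠ 0 := fun e => h.2.1 (by rw [hk, mul_coeff_zero, e, mul_zero])
  refine ⟨k, ⟨hm, hk0, ?_⟩, hk, ?_⟩
  · have e := h.2.2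
    rw [hk, rdual_mul, rdual_X_sub_C hc] at e
    exact mul_left_cancel₀ (X_sub_C_ne_zero c) e
  · rw [hk, (monic_X_sub_C c).natDegree_mul hm, natDegree_X_sub_C, add_comm]

theorem card_root (h2 : (2 : F) ≠ 0) (d : ℕ) {c : F} (hc : c * c = 1) :
    Finite {g : SDT F (d + 1) // g.1.eval c = 0} ∧
      Nat.card {g : SDT F (d + 1) // g.1.eval c = 0} ≤ nb (Fintype.card F) d := by
  haveI := (card_SDT (F := F) h2 d).1
  choose k hk using fun g : {g : SDT F (d + 1) // g.1.eval c = 0} => g.1.2.1.divRoot hc g.2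
  let f : {g : SDT F (d + 1) // g.1.eval c = 0} → SDT F d := fun g =>
    ⟨k g, (hk g).1, by have := (hk g).2.2; rw [g.1.2.2] at this; omega⟩
  have hf : Function.Injective f := fun g g' h => Subtype.ext (Subtype.ext (by
    rw [(hk g).2.1, (hk g').2.1]; exact congrArg (fun z : F[X] => (X - C c) * z) (congrArg Subtype.val h)))
  exact ⟨Finite.of_injective f hf, (Nat.card_le_card_of_injective f hf).trans (card_SDT h2 d).2⟩

theorem card_root_pair (h2 : (2 : F) ≠ 0) (d : ℕ) :
    Finite {g : SDT F (d + 2) // g.1.eval 1 = 0 ∧ g.1.eval (-1) = 0} ∧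
      Nat.card {g : SDT F (d + 2) // g.1.eval 1 = 0 ∧ g.1.eval (-1) = 0} ≤ nb (Fintype.card F) d := by
  haveI := (card_root (F := F) h2 d (c := -1) (by norm_num)).1
  choose k hk using fun g : {g : SDT F (d + 2) // g.1.eval 1 = 0 ∧ g.1.eval (-1) = 0} =>
    g.1.2.1.divRoot (one_mul 1) g.2.1
  let f : {g : SDT F (d + 2) // g.1.eval 1 = 0 ∧ g.1.eval (-1) = 0} → {g : SDT F (d + 1) // g.1.eval (-1) = 0} :=
    fun g => ⟨⟨k g, (hk g).1, by have := (hk g).2.2; rw [g.1.2.2] at this; omega⟩, by
      have h := g.2.2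
      rw [(hk g).2.1, eval_mul, eval_sub, eval_X, eval_C] at h
      refine (mul_eq_zero.1 h).resolve_left fun h' => h2 ?_
      linear_combination -h'⟩
  have hf : Function.Injective f := fun g g' h => Subtype.ext (Subtype.ext (by
    rw [(hk g).2.1, (hk g').2.1]
    exact congrArg (fun z : F[X] => (X - C (1 : F)) * z) (congrArg Subtype.val (congrArg Subtype.val h))))
  exact ⟨Finite.of_injective f hf, (Nat.card_le_card_of_injective f hf).trans (card_root h2 d (by norm_num)).2⟩

/-- The flag condition. -/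
def FlC (p : F[X] × Bool × Bool) : Prop :=
  SD p.1 ∧ (p.2.1 = true → p.1.eval 1 = 0) ∧ (p.2.2 = true → p.1.eval (-1) = 0)

/-- Polynomials with flags. -/
abbrev Fl (F : Type u) [Field F] [Fintype F] (d : ℕ) : Type u :=
  {p : F[X] × Bool × Bool // FlC p ∧ p.1.natDegree = d}

/-- The weights. -/
def ww (q : ℕ) : ℕ → ℕ
  | 0 => 1
  | 1 => 4
  | d + 2 => q * ww q d + Nat.choose 4 (d + 2)

theorem nb_add_two (q d : ℕ) (hd : 1 ≤ d) : nb q (d + 2) = q * nb q d := by
  rw [nb, nb, if_neg (by omega), if_neg (by omega), mul_add, ← pow_succ', ← pow_succ']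
  congr 2 <;> omega

theorem nb_sum_le (q : ℕ) : ∀ d, nb q (d + 2) + (nb q (d + 1) + nb q (d + 1) + nb q d) ≤ ww q (d + 2)
  | 0 => by
    have : Nat.choose 4 2 = 6 := by decide
    simp [nb, ww]
    omega
  | 1 => by
    simp [nb, ww]
    have : Nat.choose 4 3 = 4 := by decide
    omega
  | 2 => by
    have : Nat.choose 4 4 = 1 := by decide
    have : Nat.choose 4 2 = 6 := by decide
    simp [nb, ww, *]
    ring_nf
    omega
  | d + 3 => by
    have ih := nb_sum_le q (d + 1)
    rw [ww]
    have e3 : nb q (d + 3 + 2) = q * nb q (d + 3) := nb_add_two q _ (by omega)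
    have e2 : nb q (d + 3 + 1) = q * nb q (d + 2) := nb_add_two q (d + 2) (by omega)
    have e1 : nb q (d + 3) = q * nb q (d + 1) := nb_add_two q (d + 1) (by omega)
    rw [e3, e2]
    nth_rw 2 [e1]
    rw [← mul_add, ← mul_add, ← mul_add]
    exact (Nat.mul_le_mul_left q ih).trans (Nat.le_add_right _ _)

theorem card_Fl (h2 : (2 : F) ≠ 0) (d : ℕ) :
    Finite (Fl F d) ∧ Nat.card (Fl F d) ≤ ww (Fintype.card F) d := by
  classical
  let T : Bool × Bool → Type u := fun b =>
    {g : SDT F d // (b.1 = true → g.1.eval 1 = 0) ∧ (b.2 = true → g.1.eval (-1) = 0)}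
  haveI := (card_SDT (F := F) h2 d).1
  haveI : ∀ b, Finite (T b) := fun b => Subtype.finite
  let f : Fl F d → Σ b : Bool × Bool, T b := fun p =>
    ⟨p.1.2, ⟨p.1.1, p.2.1.1, p.2.2⟩, p.2.1.2.1, p.2.1.2.2⟩
  have hf : Function.Injective f := fun p p' h => by
    have h' := congrArg (fun s : Σ b : Bool × Bool, T b => ((s.2.1.1, s.1) : F[X] × Bool × Bool)) h
    exact Subtype.ext h'
  refine ⟨Finite.of_injective f hf, (Nat.card_le_card_of_injective f hf).trans ?_⟩
  rw [Nat.card_sigma, Fintype.sum_prod_type]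
  simp only [Fintype.sum_bool]
  have hff : Nat.card (T (false, false)) ≤ nb (Fintype.card F) d :=
    (Nat.card_le_card_of_injective (fun g => g.1) Subtype.val_injective).trans (card_SDT h2 d).2
  have hone : ∀ b : Bool × Bool, (b.1 || b.2) = true → d = 0 → Nat.card (T b) = 0 := fun b hb hd => by
    haveI : IsEmpty (T b) := ⟨fun g => by
      have e := eq_one_of_monic_natDegree_zero g.1.2.1.1 (g.1.2.2.trans hd)
      rcases Bool.or_eq_true_iff.1 hb with h | h
      · have := g.2.1 h; rw [e, eval_one] at this; exact one_ne_zero this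
      · have := g.2.2 h; rw [e, eval_one] at this; exact one_ne_zero this⟩
    exact Nat.card_of_isEmpty
  rcases d with _ | _ | d
  · rw [hone _ rfl rfl, hone _ rfl rfl, hone _ rfl rfl]
    simpa [nb, ww] using hff
  · have htf : Nat.card (T (true, false)) ≤ 1 := by
      haveI := (card_root (F := F) h2 0 (c := 1) (one_mul 1)).1
      refine (Nat.card_le_card_of_injective (fun g => (⟨g.1, g.2.1 rfl⟩ : {g : SDT F (0 + 1) // g.1.eval 1 = 0}))
        fun a b h => by injection h with h; exact Subtype.ext h).trans ((card_root h2 0 (one_mul 1)).2.trans ?_)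
      simp [nb]
    have hft : Nat.card (T (false, true)) ≤ 1 := by
      haveI := (card_root (F := F) h2 0 (c := -1) (by norm_num)).1
      refine (Nat.card_le_card_of_injective
        (fun g => (⟨g.1, g.2.2 rfl⟩ : {g : SDT F (0 + 1) // g.1.eval (-1) = 0}))
        fun a b h => by injection h with h; exact Subtype.ext h).trans ((card_root h2 0 (by norm_num)).2.trans ?_)
      simp [nb]
    have htt : Nat.card (T (true, true)) = 0 := by
      haveI : IsEmpty (T (true, true)) := ⟨fun g => by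
        obtain ⟨k, hk1, hk2, hk3⟩ := g.1.2.1.divRoot (one_mul 1) (g.2.1 rfl)
        have h := g.2.2 rfl
        rw [g.1.2.2] at hk3
        rw [hk2, eq_one_of_monic_natDegree_zero hk1.1 (by omega), mul_one, eval_sub, eval_X, eval_C] at h
        exact h2 (by linear_combination -h)⟩
      exact Nat.card_of_isEmpty
    simp [nb] at hff
    simp only [ww]
    omega
  · have htf : Nat.card (T (true, false)) ≤ nb (Fintype.card F) (d + 1) := by
      haveI := (card_root (F := F) h2 (d + 1) (c := 1) (one_mul 1)).1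
      exact (Nat.card_le_card_of_injective (fun g => (⟨g.1, g.2.1 rfl⟩ : {g : SDT F (d + 1 + 1) // g.1.eval 1 = 0}))
        fun a b h => by injection h with h; exact Subtype.ext h).trans (card_root h2 (d + 1) (one_mul 1)).2
    have hft : Nat.card (T (false, true)) ≤ nb (Fintype.card F) (d + 1) := by
      haveI := (card_root (F := F) h2 (d + 1) (c := -1) (by norm_num)).1
      exact (Nat.card_le_card_of_injective
        (fun g => (⟨g.1, g.2.2 rfl⟩ : {g : SDT F (d + 1 + 1) // g.1.eval (-1) = 0}))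
        fun a b h => by injection h with h; exact Subtype.ext h).trans (card_root h2 (d + 1) (by norm_num)).2
    have htt : Nat.card (T (true, true)) ≤ nb (Fintype.card F) d := by
      haveI := (card_root_pair (F := F) h2 d).1
      exact (Nat.card_le_card_of_injective
        (fun g => (⟨g.1, g.2.1 rfl, g.2.2 rfl⟩ : {g : SDT F (d + 2) // g.1.eval 1 = 0 ∧ g.1.eval (-1) = 0}))
        fun a b h => by injection h with h; exact Subtype.ext h).trans (card_root_pair h2 d).2
    refine le_trans ?_ (nb_sum_le _ d)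
    have : nb (Fintype.card F) (d + 1 + 1) = nb (Fintype.card F) (d + 2) := rfl
    omega

/-! ### Sequences -/

mutual
/-- The bound for `I` pairs of exponents. -/
def kA (q : ℕ) : ℕ → ℕ → ℕ
  | 0, m => if m = 0 then 1 else 0
  | I + 1, m => ∑ d ∈ Finset.range (m / (I + 1) + 1), ww q d * kB q I (m - (I + 1) * d)

/-- The same with one more odd exponent. -/
def kB (q : ℕ) : ℕ → ℕ → ℕ
  | I, r => ∑ j ∈ Finset.range (r / (2 * I + 1) + 1), q ^ j * kA q I (r - (2 * I + 1) * j)
end

/-- The weight of a sequence. -/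
noncomputable def wt {I : ℕ} (p : (Fin I → F[X]) × (Fin I → F[X] × Bool × Bool)) : ℕ :=
  ∑ i : Fin I, ((2 * (i : ℕ) + 1) * ((p.1 i).natDegree / 2) + ((i : ℕ) + 1) * (p.2 i).1.natDegree)

/-- Sequences of pairs. -/
abbrev Seq (F : Type u) [Field F] [Fintype F] (I m : ℕ) : Type u :=
  {p : (Fin I → F[X]) × (Fin I → F[X] × Bool × Bool) //
    ((∀ i, SD (p.1 i) ∧ Even (p.1 i).natDegree ∧ (p.1 i).coeff 0 = 1) ∧ ∀ i, FlC (p.2 i)) ∧ wt p = m}

theorem card_Seq (h2 : (2 : F) ≠ 0) :
    ∀ I m, Finite (Seq F I m) ∧ Nat.card (Seq F I m) ≤ kA (Fintype.card F) I m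
  | 0, m => by
    haveI : Subsingleton (Seq F 0 m) := ⟨fun a b => Subtype.ext (Prod.ext (funext fun i => i.elim0) (funext fun i => i.elim0))⟩
    refine ⟨inferInstance, ?_⟩
    rw [kA]
    split_ifs with h
    · exact Finite.card_le_one_iff_subsingleton.2 inferInstance
    · haveI : IsEmpty (Seq F 0 m) := ⟨fun a => h (by rw [← a.2.2, wt]; rfl)⟩
      simp
  | I + 1, m => by
    classical
    haveI := fun d => (card_Fl (F := F) h2 d).1
    haveI := fun j => (card_EP (F := F) j).1
    haveI := fun r => (card_Seq h2 I r).1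
    let Tail : ℕ → Type u := fun r => Σ j : Fin (r / (2 * I + 1) + 1), EP F j × Seq F I (r - (2 * I + 1) * j)
    haveI : ∀ r, Finite (Tail r) := fun r => inferInstance
    have hw : ∀ p : Seq F (I + 1) m, wt (fun i => p.1.1 (Fin.castSucc i), fun i => p.1.2 (Fin.castSucc i)) +
        ((2 * I + 1) * ((p.1.1 (Fin.last I)).natDegree / 2) + (I + 1) * (p.1.2 (Fin.last I)).1.natDegree) = m :=
      fun p => by
        have := p.2.2
        rw [wt, Fin.sum_univ_castSucc] at this
        simpa [wt] using this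
    let f : Seq F (I + 1) m → Σ d : Fin (m / (I + 1) + 1), Fl F d × Tail (m - (I + 1) * d) := fun p =>
      ⟨⟨(p.1.2 (Fin.last I)).1.natDegree, Nat.lt_succ_of_le ((Nat.le_div_iff_mul_le (by omega)).2 (by
          have := hw p; rw [mul_comm]; omega))⟩,
        ⟨⟨p.1.2 (Fin.last I), p.2.1.2 _, rfl⟩,
          ⟨⟨(p.1.1 (Fin.last I)).natDegree / 2, Nat.lt_succ_of_le ((Nat.le_div_iff_mul_le (by omega)).2 (by
              have := hw p; rw [mul_comm]; simp only [] at *; omega))⟩,
            ⟨p.1.1 (Fin.last I), (p.2.1.1 _).1, (Nat.two_mul_div_two_of_even (p.2.1.1 _).2.1).symm, (p.2.1.1 _).2.2⟩,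
            ⟨(fun i => p.1.1 (Fin.castSucc i), fun i => p.1.2 (Fin.castSucc i)),
              ⟨fun i => p.2.1.1 _, fun i => p.2.1.2 _⟩, by
              have := hw p
              show _ = m - (I + 1) * (p.1.2 (Fin.last I)).1.natDegree -
                (2 * I + 1) * ((p.1.1 (Fin.last I)).natDegree / 2)
              omega⟩⟩⟩⟩
    let g : (Σ d : Fin (m / (I + 1) + 1), Fl F d × Tail (m - (I + 1) * d)) →
        (Fin (I + 1) → F[X]) × (Fin (I + 1) → F[X] × Bool × Bool) := fun s =>
      (Fin.snoc s.2.2.2.2.1.1 s.2.2.2.1.1, Fin.snoc s.2.2.2.2.1.2 s.2.1.1)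
    have hg : ∀ p, g (f p) = p.1 := fun p => Prod.ext (Fin.snoc_init_self p.1.1) (Fin.snoc_init_self p.1.2)
    have hf : Function.Injective f := fun p p' h => Subtype.ext (by rw [← hg p, ← hg p', h])
    refine ⟨Finite.of_injective f hf, (Nat.card_le_card_of_injective f hf).trans ?_⟩
    rw [Nat.card_sigma, kA, ← Fin.sum_univ_eq_sum_range]
    refine Finset.sum_le_sum fun d _ => ?_
    rw [Nat.card_prod]
    refine Nat.mul_le_mul (card_Fl h2 d).2 ?_
    rw [Nat.card_sigma, kB, ← Fin.sum_univ_eq_sum_range]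
    refine Finset.sum_le_sum fun j _ => ?_
    rw [Nat.card_prod]
    exact Nat.mul_le_mul (card_EP j).2 (card_Seq h2 I _).2

end Cfsg.Agent.Lib.ClassesSp
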