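import Cfsg.Agent.Lib.ClassesSL.Invariant
import Cfsg.Agent.Lib.TransposeConj
import Cfsg.Agent.Lib.Symplectic.Std

/-!
Reciprocal polynomials, and invariance of the elementary divisors of a symplectic matrix.
-/

set_option autoImplicit false
set_option linter.unusedSectionVars false
set_option linter.style.haveILetI false

namespace Cfsg.Agent.Lib.ClassesSp

open Polynomial
open Cfsg.Agent.Lib.ClassesGLBound
open Cfsg.Agent.Lib.ClassesSL

universe u

variable {F : Type u} [Field F] [Fintype F] {n : ℕ}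

/-- The polynomial whose roots are the inverses of the roots. -/
noncomputable def rdual (f : F[X]) : F[X] := C (f.coeff 0)⁻¹ * f.reverse

theorem coeff_rdual (f : F[X]) {i : ℕ} (hi : i ≤ f.natDegree) :
    (rdual f).coeff i = (f.coeff 0)⁻¹ * f.coeff (f.natDegree - i) := by
  rw [rdual, coeff_C_mul, coeff_reverse, revAt_le hi]

theorem rdual_mul (f g : F[X]) : rdual (f * g) = rdual f * rdual g := by
  rw [rdual, rdual, rdual, reverse_mul_of_domain, mul_coeff_zero, mul_inv,
    C_mul]
  ring

theorem rdual_one : rdual (1 : F[X]) = 1 := by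
  rw [rdual, coeff_one_zero, inv_one, C_1, one_mul, ← C_1, reverse_C]

theorem natDegree_rdual {f : F[X]} (hf : f.coeff 0 ≠ 0) :
    (rdual f).natDegree = f.natDegree := by
  rw [rdual, natDegree_C_mul (inv_ne_zero (hf)), reverse_natDegree]
  rw [natTrailingDegree_eq_zero.2 (Or.inr ?_), Nat.sub_zero]
  exact hf

theorem rdual_coeff_zero {f : F[X]} (hf : f.Monic) :
    (rdual f).coeff 0 = ((f.coeff 0))⁻¹ := by
  rw [coeff_rdual f (Nat.zero_le _), Nat.sub_zero, hf.coeff_natDegree, mul_one]

theorem monic_rdual {f : F[X]} (hf : f.coeff 0 ≠ 0) : (rdual f).Monic := by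
  show (rdual f).coeff (rdual f).natDegree = 1
  rw [natDegree_rdual hf, coeff_rdual f le_rfl, Nat.sub_self,
    inv_mul_cancel₀ (hf)]

theorem rdual_coeff_zero_ne {f : F[X]} (hf : f.Monic) (h0 : f.coeff 0 ≠ 0) :
    (rdual f).coeff 0 ≠ 0 := by
  rw [rdual_coeff_zero hf]; exact inv_ne_zero (h0)

theorem rdual_rdual {f : F[X]} (hf : f.Monic) (h0 : f.coeff 0 ≠ 0) :
    rdual (rdual f) = f := by
  ext i
  rcases le_or_gt i f.natDegree with hi | hi
  · rw [coeff_rdual _ (by rwa [natDegree_rdual h0]), natDegree_rdual h0,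
      coeff_rdual f (Nat.sub_le _ _), rdual_coeff_zero hf, Nat.sub_sub_self hi, inv_inv]
    field_simp
  · rw [coeff_eq_zero_of_natDegree_lt hi, coeff_eq_zero_of_natDegree_lt]
    rwa [natDegree_rdual (rdual_coeff_zero_ne hf h0), natDegree_rdual h0]

theorem rdual_pow (f : F[X]) (k : ℕ) : rdual (f ^ k) = rdual f ^ k := by
  induction k with
  | zero => rw [pow_zero, pow_zero, rdual_one]
  | succ k ih => rw [pow_succ, pow_succ, rdual_mul, ih]

theorem irreducible_rdual {f : F[X]} (hf : Irreducible f) (hm : f.Monic) (h0 : f.coeff 0 ≠ 0) :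
    Irreducible (rdual f) := by
  refine ⟨fun hu => ?_, fun a b hab => ?_⟩
  · have h1 := natDegree_eq_zero_of_isUnit hu
    rw [natDegree_rdual h0] at h1
    exact hf.natDegree_pos.ne' h1
  · have hc : a.coeff 0 * b.coeff 0 ≠ 0 := by
      rw [← mul_coeff_zero, ← hab]; exact rdual_coeff_zero_ne hm h0
    have e : f = rdual a * rdual b := by rw [← rdual_mul, ← hab, rdual_rdual hm h0]
    rcases hf.isUnit_or_isUnit e with h | h
    · left
      have h1 := natDegree_eq_zero_of_isUnit h
      rw [natDegree_rdual (left_ne_zero_of_mul hc)] at h1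
      rw [eq_C_of_natDegree_eq_zero h1]
      exact isUnit_C.2 (isUnit_iff_ne_zero.2 (left_ne_zero_of_mul hc))
    · right
      have h1 := natDegree_eq_zero_of_isUnit h
      rw [natDegree_rdual (right_ne_zero_of_mul hc)] at h1
      rw [eq_C_of_natDegree_eq_zero h1]
      exact isUnit_C.2 (isUnit_iff_ne_zero.2 (right_ne_zero_of_mul hc))

/-- Evaluating the reverse at an invertible element. -/
theorem aeval_reverse {E : Type*} [Ring E] [Algebra F E] {r ri : E} (h : r * ri = 1) (g : F[X]) :
    aeval r g.reverse = r ^ g.natDegree * aeval ri g := by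
  rw [aeval_eq_sum_range' (p := g.reverse) (n := g.natDegree + 1)
      (Nat.lt_succ_of_le g.reverse_natDegree_le) r, aeval_eq_sum_range ri, Finset.mul_sum,
    ← Finset.sum_range_reflect (fun i => r ^ g.natDegree * (g.coeff i • ri ^ i))]
  refine Finset.sum_congr rfl fun i hi => ?_
  have hi' : i ≤ g.natDegree := by rw [Finset.mem_range] at hi; omega
  rw [coeff_reverse, revAt_le hi', mul_smul_comm, Nat.add_sub_cancel]
  congr 1
  have key : ∀ k, r ^ k * ri ^ k = 1 := fun k => by
    induction k with
    | zero => simp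
    | succ k ih =>
      rw [pow_succ, pow_succ', show r ^ k * r * (ri * ri ^ k) = r ^ k * (r * ri) * ri ^ k by
        simp only [mul_assoc], h, mul_one, ih]
  rw [show r ^ g.natDegree = r ^ i * r ^ (g.natDegree - i) by
    rw [← pow_add, Nat.add_sub_cancel' hi'], mul_assoc, key, mul_one]

/-- A matrix conjugate to its inverse has equal kernel counts at a polynomial and at its dual. -/
theorem kerCard_rdual (A : GL (Fin n) F) (hA : IsConj A A⁻¹) {f : F[X]} (h0 : f.coeff 0 ≠ 0)
    (k : ℕ) : kerCard A (rdual f) k = kerCard A f k := by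
  classical
  obtain ⟨g, hg⟩ := isConj_iff.1 hA
  have h2 : kerCard A⁻¹ f k = kerCard A f k := by rw [← hg, kerCard_conj]
  rw [← h2]
  refine Nat.card_congr (Equiv.subtypeEquivRight fun v => ?_)
  have hinv : Matrix.toLin' (A : Matrix (Fin n) (Fin n) F) *
      Matrix.toLin' ((A⁻¹ : GL (Fin n) F) : Matrix (Fin n) (Fin n) F) = 1 := by
    rw [Module.End.mul_eq_comp, ← Matrix.toLin'_mul, ← Units.val_mul, mul_inv_cancel, Units.val_one,
      Matrix.toLin'_one]
    rfl
  have hinv' : Matrix.toLin' ((A⁻¹ : GL (Fin n) F) : Matrix (Fin n) (Fin n) F) *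
      Matrix.toLin' (A : Matrix (Fin n) (Fin n) F) = 1 := by
    rw [Module.End.mul_eq_comp, ← Matrix.toLin'_mul, ← Units.val_mul, inv_mul_cancel, Units.val_one,
      Matrix.toLin'_one]
    rfl
  rw [rdual, mul_pow, ← C_pow, map_mul, aeval_C, Module.End.mul_apply, Module.algebraMap_end_apply,
    smul_eq_zero]
  simp only [pow_ne_zero _ (inv_ne_zero h0), false_or]
  rw [map_pow, map_pow, aeval_reverse hinv]
  set a := Matrix.toLin' (A : Matrix (Fin n) (Fin n) F)
  set ai := Matrix.toLin' ((A⁻¹ : GL (Fin n) F) : Matrix (Fin n) (Fin n) F)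
  have hc : Commute (a ^ f.natDegree) (aeval ai f) := by
    have h1 : Commute a ai := hinv.trans hinv'.symm
    have : ∀ p : F[X], Commute (a ^ f.natDegree) (aeval ai p) := fun p => by
      induction p using Polynomial.induction_on' with
      | add p r hp hr => rw [map_add]; exact hp.add_right hr
      | monomial m s =>
        rw [aeval_monomial]
        exact Commute.mul_right (Algebra.commute_algebraMap_right s _) (h1.pow_pow _ _)
    exact this _
  rw [hc.mul_pow, Module.End.mul_apply]
  have hu : Function.Injective ((a ^ f.natDegree) ^ k : Module.End F (Fin n → F)) := by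
    rw [← pow_mul]
    exact ((Module.End.isUnit_iff _).1 ((IsUnit.of_mul_eq_one _ hinv).pow _)).1
  exact map_eq_zero_iff _ hu

/-- Two keys occur equally often when they are dual. -/
theorem card_fibre_rdual [DecidableEq F] (A : GL (Fin n) F) (hA : IsConj A A⁻¹) (e : ℕ) (he : 1 ≤ e) {f : F[X]}
    (hf : Irreducible f) (hm : f.Monic) (h0 : f.coeff 0 ≠ 0) :
    Fintype.card {i // keyOf A i = (e, rdual f)} = Fintype.card {i // keyOf A i = (e, f)} :=
  card_fibre_eq_of_kerCard (irreducible_rdual hf hm h0) (monic_rdual h0) hf hm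
    (natDegree_rdual h0) (kerCard_rdual A hA h0) e he

/-- The components of the invariant of a matrix conjugate to its inverse are self-dual. -/
theorem invT_rdual (A : GL (Fin n) F) (hA : IsConj A A⁻¹) (j : Fin n) :
    rdual ((invT A).1 j) = (invT A).1 j := by
  classical
  set P := (invT A).1 j with hP
  have hm : P.Monic := ((invT A).2.1 j).1
  have hP0 : P.coeff 0 ≠ 0 := ((invT A).2.1 j).2
  have hmem : ∀ f ∈ UniqueFactorizationMonoid.normalizedFactors P,
      Irreducible f ∧ f.Monic ∧ f.coeff 0 ≠ 0 := fun f hf => by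
    refine ⟨UniqueFactorizationMonoid.irreducible_of_normalized_factor f hf, ?_, fun h => hP0 ?_⟩
    · rw [← UniqueFactorizationMonoid.normalize_normalized_factor f hf]
      exact monic_normalize (UniqueFactorizationMonoid.irreducible_of_normalized_factor f hf).ne_zero
    · obtain ⟨r, hr⟩ := UniqueFactorizationMonoid.dvd_of_mem_normalizedFactors hf
      rw [hr, mul_coeff_zero, h, zero_mul]
  set M := UniqueFactorizationMonoid.normalizedFactors P with hM
  have hcount : ∀ f, Irreducible f → f.Monic → f.coeff 0 ≠ 0 →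
      Multiset.count (rdual f) M = Multiset.count f M := by
    intro f hf hfm hf0
    rw [hM, hP]
    show Multiset.count _ (UniqueFactorizationMonoid.normalizedFactors (tup (keyOf A) n j)) =
      Multiset.count _ (UniqueFactorizationMonoid.normalizedFactors (tup (keyOf A) n j))
    rw [← card_fibre_eq (keyOf_spec A).1, ← card_fibre_eq (keyOf_spec A).1]
    exact card_fibre_rdual A hA _ (by omega) hf hfm hf0
  have hnd : ∀ S : Multiset F[X], (∀ f ∈ S, f ∈ M) → (S.map (rdual)).prod = rdual S.prod := by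
    intro S
    induction S using Multiset.induction_on with
    | empty => intro _; rw [Multiset.map_zero, Multiset.prod_zero, rdual_one]
    | cons a S ih =>
      intro h
      rw [Multiset.map_cons, Multiset.prod_cons, Multiset.prod_cons,
        ih fun f hf => h f (Multiset.mem_cons_of_mem hf), rdual_mul]
  have hinj : Set.InjOn (rdual) {f : F[X] | f ∈ M} := fun a ha b hb h => by
    rw [← rdual_rdual (hmem a ha).2.1 (hmem a ha).2.2, h,
      rdual_rdual (hmem b hb).2.1 (hmem b hb).2.2]
  have hmap : M.map (rdual) = M := by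
    ext f
    by_cases hf : Irreducible f ∧ f.Monic ∧ f.coeff 0 ≠ 0
    · obtain ⟨h1, h2, h3⟩ := hf
      have hback := rdual_rdual h2 h3
      by_cases hg : rdual f ∈ M
      · conv_lhs => rw [← hback]
        rw [Multiset.count_map_eq_count _ _ hinj _ hg, hcount f h1 h2 h3]
      · have e1 : Multiset.count f (M.map (rdual)) = 0 := by
          refine Multiset.count_eq_zero.2 fun hmem' => hg ?_
          obtain ⟨g, hg1, hg2⟩ := Multiset.mem_map.1 hmem'
          rw [← hg2, rdual_rdual (hmem g hg1).2.1 (hmem g hg1).2.2]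
          exact hg1
        rw [e1, ← hcount f h1 h2 h3, Multiset.count_eq_zero.2 hg]
    · rw [Multiset.count_eq_zero.2 fun h => hf ?_, Multiset.count_eq_zero.2 fun h => hf (hmem f h)]
      obtain ⟨g, hg, rfl⟩ := Multiset.mem_map.1 h
      obtain ⟨g1, g2, g3⟩ := hmem g hg
      exact ⟨irreducible_rdual g1 g2 g3, monic_rdual g3, rdual_coeff_zero_ne g2 g3⟩
  have hMP : M.prod = P := eq_of_monic_of_associated
    (monic_multiset_prod_of_monic _ _ (fun f hf => (hmem f hf).2.1) |> fun h => by simpa using h) hm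
    (UniqueFactorizationMonoid.prod_normalizedFactors hm.ne_zero)
  rw [← hMP, ← hnd M fun f hf => hf, hmap]

/-- A symplectic matrix as an element of `GL (2n)`. -/
noncomputable def toGL (n : ℕ) (F : Type u) [Field F] :
    Matrix.symplecticGroup (Fin n) F →* GL (Fin (n + n)) F :=
  ((Matrix.reindexAlgEquiv F F finSumFinEquiv).toMonoidHom.comp
    (Matrix.symplecticGroup (Fin n) F).subtype).toHomUnits

theorem coe_toGL (x : Matrix.symplecticGroup (Fin n) F) :
    (toGL n F x : Matrix (Fin (n + n)) (Fin (n + n)) F) =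
      Matrix.reindex finSumFinEquiv finSumFinEquiv (x : Matrix (Fin n ⊕ Fin n) (Fin n ⊕ Fin n) F) := rfl

theorem isConj_inv (x : Matrix.symplecticGroup (Fin n) F) : IsConj (toGL n F x) (toGL n F x)⁻¹ := by
  let φ := Matrix.reindexAlgEquiv F F (finSumFinEquiv (m := n) (n := n))
  obtain ⟨w, hw⟩ := TransposeConj.isConj_transpose (toGL n F x : Matrix (Fin (n + n)) (Fin (n + n)) F)
  let c : (Matrix (Fin (n + n)) (Fin (n + n)) F)ˣ :=
    ⟨φ (-Matrix.J (Fin n) F), φ (Matrix.J (Fin n) F),
      by rw [← map_mul, Matrix.neg_mul, Matrix.J_squared, neg_neg, map_one],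
      by rw [← map_mul, Matrix.mul_neg, Matrix.J_squared, neg_neg, map_one]⟩
  have e : (((toGL n F x)⁻¹ : GL (Fin (n + n)) F) : Matrix (Fin (n + n)) (Fin (n + n)) F) =
      φ (-Matrix.J (Fin n) F * (x : Matrix (Fin n ⊕ Fin n) (Fin n ⊕ Fin n) F).transpose * Matrix.J (Fin n) F) := by
    rw [← map_inv, coe_toGL, SymplecticGroup.coe_inv]
    rfl
  have hc : IsConj ((toGL n F x : Matrix (Fin (n + n)) (Fin (n + n)) F).transpose)
      (((toGL n F x)⁻¹ : GL (Fin (n + n)) F) : Matrix (Fin (n + n)) (Fin (n + n)) F) := by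
    refine ⟨c, ?_⟩
    show φ (-Matrix.J (Fin n) F) * _ = _ * φ (-Matrix.J (Fin n) F)
    rw [coe_toGL, e, Matrix.transpose_reindex]
    show φ _ * φ _ = φ _ * φ _
    rw [← map_mul, ← map_mul, Matrix.mul_assoc (-Matrix.J (Fin n) F * _), Matrix.mul_neg, Matrix.J_squared,
      neg_neg, Matrix.mul_one]
  obtain ⟨v, hv⟩ := IsConj.trans ⟨w, hw⟩ hc
  exact ⟨toUnits v, Units.ext hv⟩

end Cfsg.Agent.Lib.ClassesSp
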