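import Cfsg.Agent.Lib.ClassesSp.Nilpotent
import Cfsg.Agent.Lib.GLFlags.SympConj
import Cfsg.Agent.Lib.Symplectic.Std

/-!
Two invariant symplectic forms of an operator are equivariantly isometric when the signs of their
normal bases on the two eigenspaces for `±1` agree.
-/

set_option autoImplicit false
set_option linter.unusedSectionVars false

namespace Cfsg.Agent.Lib.ClassesSp

open Module
open Cfsg.Agent.Lib.Symplectic (IsSympForm restr)
open Cfsg.Agent.Lib.GLFlags.SympConj (Good)

universe u v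

variable {F : Type u} [Field F] {V : Type v} [AddCommGroup V] [Module F V]

/-- `T - ε`. -/
def shiftT (T : Module.End F V) (ε : F) : Module.End F V := T - ε • 1

theorem shiftT_apply (T : Module.End F V) (ε : F) (x : V) : shiftT T ε x = T x - ε • x := rfl

/-- The signs of a normal basis of the Cayley transform. -/
def HasCode (B : V →ₗ[F] V →ₗ[F] F) (T : Module.End F V) (ε α : F) (N : ℕ) (s : ℕ → Bool) : Prop :=
  ∃ D : Module.End F V, D * shiftT T (-ε) = shiftT T ε ∧ Skew B D ∧ ∃ P : NF B D α N, P.s = s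

variable {B B' : V →ₗ[F] V →ₗ[F] F} {T : Module.End F V} {ε α : F} {N : ℕ}

theorem isUnit_shiftT_neg (h2 : (2 : F) ≠ 0) (hε : ε * ε = 1) (hnil : shiftT T ε ^ N = 0) :
    IsUnit (shiftT T (-ε)) := by
  have hu : IsUnit ((2 * ε) • (1 : Module.End F V)) := by
    rw [← Algebra.algebraMap_eq_smul_one]
    exact (isUnit_iff_ne_zero.2 (mul_ne_zero h2 (left_ne_zero_of_mul_eq_one hε))).map _
  have e : shiftT T (-ε) = shiftT T ε + (2 * ε) • 1 := by
    rw [shiftT, shiftT, neg_smul, two_mul, add_smul]; abel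
  rw [e]
  exact IsNilpotent.isUnit_add_right_of_commute ⟨N, hnil⟩ hu ((Commute.one_right _).smul_right _)

theorem commute_shiftT (T : Module.End F V) (a b : F) : Commute (shiftT T a) (shiftT T b) :=
  ((Commute.refl T).sub_right ((Commute.one_right T).smul_right b)).sub_left
    (((Commute.one_left T).smul_left a).sub_right (((Commute.one_left 1).smul_left a).smul_right b))

theorem cayley_pow (h2 : (2 : F) ≠ 0) (hε : ε * ε = 1) (hnil : shiftT T ε ^ N = 0) {D : Module.End F V}
    (hD : D * shiftT T (-ε) = shiftT T ε) : D ^ N = 0 := by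
  obtain ⟨u, hu⟩ := isUnit_shiftT_neg h2 hε hnil
  have e : D = shiftT T ε * (u⁻¹ : (Module.End F V)ˣ) := by
    rw [← hD, ← hu, mul_assoc, u.mul_inv, mul_one]
  have hc : Commute (shiftT T ε) ((u⁻¹ : (Module.End F V)ˣ) : Module.End F V) :=
    Commute.units_inv_right (hu ▸ commute_shiftT T ε (-ε))
  rw [e, hc.mul_pow, hnil, zero_mul]

/-- Every isometry with a single eigenvalue `±1` has a code. -/
theorem exists_code [Finite F] [FiniteDimensional F V] (h2 : (2 : F) ≠ 0) (hα : ¬ IsSquare α)
    (hB : IsSympForm B) (hT : ∀ x y, B (T x) (T y) = B x y) (hε : ε * ε = 1)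
    (hnil : shiftT T ε ^ N = 0) : ∃ s, HasCode B T ε α N s := by
  obtain ⟨u, hu⟩ := isUnit_shiftT_neg h2 hε hnil
  let D : Module.End F V := shiftT T ε * (u⁻¹ : (Module.End F V)ˣ)
  have hD : D * shiftT T (-ε) = shiftT T ε := by
    rw [← hu]; simp [D, mul_assoc]
  have hskew : Skew B D := by
    intro x y
    have hsurj : Function.Surjective (shiftT T (-ε)) :=
      ((Module.End.isUnit_iff _).1 ⟨u, hu⟩).2
    obtain ⟨a, rfl⟩ := hsurj x
    obtain ⟨b, rfl⟩ := hsurj y
    rw [← Module.End.mul_apply, hD, ← Module.End.mul_apply, hD]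
    simp only [shiftT_apply, map_sub, map_smul, LinearMap.sub_apply, LinearMap.smul_apply, smul_eq_mul, hT]
    linear_combination -2 * B a b * hε
  obtain ⟨P⟩ := exists_nf h2 hα N B D hB hskew (cayley_pow h2 hε hnil hD)
  exact ⟨P.s, D, hD, hskew, P, rfl⟩

/-- Equal codes give an equivariant isometry. -/
theorem good_of_code [FiniteDimensional F V] (h2 : (2 : F) ≠ 0) (hα : α ≠ 0) (hε : ε * ε = 1)
    (hnil : shiftT T ε ^ N = 0) {s : ℕ → Bool} (h : HasCode B T ε α N s) (h' : HasCode B' T ε α N s) :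
    Good T B B' := by
  obtain ⟨D, hD, hskew, P, hP⟩ := h
  obtain ⟨D', hD', hskew', P', hP'⟩ := h'
  obtain rfl : D = D' := (isUnit_shiftT_neg h2 hε hnil).mul_left_inj.1 (hD.trans hD'.symm)
  obtain ⟨e, he, hiso⟩ := P.exists_isometry hα hskew hskew' P' (hP.trans hP'.symm)
  refine ⟨e, fun x => ?_, hiso⟩
  have hrel : ∀ x, T x - D (T x) = ε • (x + D x) := fun x => by
    have h := LinearMap.congr_fun hD x
    rw [Module.End.mul_apply, shiftT_apply, shiftT_apply, map_sub, map_smul, neg_smul, sub_neg_eq_add] at h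
    calc T x - D (T x) = (D (T x) + ε • D x + ε • x) - D (T x) := by rw [h]; abel
      _ = _ := by rw [smul_add]; abel
  have hfix : ∀ z, D z = z → z = 0 := fun z hz => by
    have : ∀ k, (D ^ k) z = z := fun k => by
      induction k with
      | zero => rfl
      | succ k ih => rw [pow_succ, Module.End.mul_apply, hz, ih]
    rw [← this N, cayley_pow h2 hε hnil hD]; rfl
  refine sub_eq_zero.1 (hfix _ ?_)
  have h1 := congrArg e (hrel x)
  rw [map_sub, he, map_smul, map_add, he, ← hrel] at h1
  rw [map_sub, ← sub_eq_zero]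
  calc _ = (T (e x) - D (T (e x))) - (e (T x) - D (e (T x))) := by abel
    _ = 0 := by rw [h1, sub_self]

/-- Transport. -/
theorem HasCode.map {V' : Type*} [AddCommGroup V'] [Module F V'] {C : V' →ₗ[F] V' →ₗ[F] F}
    {T' : Module.End F V'} {s : ℕ → Bool} (h : HasCode B T ε α N s) (φ : V ≃ₗ[F] V')
    (hB : ∀ x y, C (φ x) (φ y) = B x y) (hT : ∀ x, φ (T x) = T' (φ x)) : HasCode C T' ε α N s := by
  obtain ⟨D, hD, hskew, P, hP⟩ := h
  let D' : Module.End F V' := φ.toLinearMap ∘ₗ D ∘ₗ φ.symm.toLinearMap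
  have hDφ : ∀ x, D' (φ x) = φ (D x) := fun x => by simp [D']
  refine ⟨D', ?_, fun x y => ?_, P.map φ hB hDφ, hP⟩
  · refine LinearMap.ext fun y => ?_
    obtain ⟨x, rfl⟩ := φ.surjective y
    have hs : ∀ c, shiftT T' c (φ x) = φ (shiftT T c x) := fun c => by
      rw [shiftT_apply, shiftT_apply, map_sub, map_smul, hT]
    rw [Module.End.mul_apply, hs, hs, hDφ, ← Module.End.mul_apply, hD]
  · obtain ⟨x, rfl⟩ := φ.surjective x
    obtain ⟨y, rfl⟩ := φ.surjective y
    rw [hDφ, hDφ, hB, hB, hskew]

/-! ### The decomposition -/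

theorem shiftT_pow_mem {M : ℕ} {x : V} (hx : x ∈ LinearMap.ker (shiftT T ε ^ M)) :
    T x ∈ LinearMap.ker (shiftT T ε ^ M) := by
  have hc : Commute (shiftT T ε ^ M) T :=
    (((Commute.refl T).sub_left ((Commute.one_left T).smul_left ε))).pow_left M
  rw [LinearMap.mem_ker] at hx ⊢
  rw [← Module.End.mul_apply, hc.eq, Module.End.mul_apply, hx, map_zero]

theorem shiftT_pow_mem_range {M : ℕ} {x : V} (hx : x ∈ LinearMap.range (shiftT T ε ^ M)) :
    T x ∈ LinearMap.range (shiftT T ε ^ M) := by
  have hc : Commute (shiftT T ε ^ M) T :=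
    (((Commute.refl T).sub_left ((Commute.one_left T).smul_left ε))).pow_left M
  obtain ⟨y, rfl⟩ := hx
  exact ⟨T y, by rw [← Module.End.mul_apply, hc.eq, Module.End.mul_apply]⟩

theorem coe_shiftT_restrict_pow {W : Submodule F V} (h : ∀ x ∈ W, T x ∈ W) (c : F) :
    ∀ (m : ℕ) (x : W), (((shiftT (T.restrict h) c ^ m) x : W) : V) = (shiftT T c ^ m) (x : V) := by
  intro m
  induction m with
  | zero => intro x; rfl
  | succ m ih => intro x; rw [pow_succ, Module.End.mul_apply, ih, pow_succ, Module.End.mul_apply]; rfl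

theorem perp_ker_range (hTbij : Function.Bijective T) (hT : ∀ x y, B (T x) (T y) = B x y)
    (hε : ε * ε = 1) : ∀ (M : ℕ) (x z : V), (shiftT T ε ^ M) x = 0 → B x ((shiftT T ε ^ M) z) = 0 := by
  intro M
  induction M with
  | zero => intro x z hx; rw [show x = 0 from hx, map_zero, LinearMap.zero_apply]
  | succ M ih =>
    intro x z hx
    obtain ⟨x', rfl⟩ := hTbij.2 x
    have hc : Commute (shiftT T ε ^ (M + 1)) T :=
      (((Commute.refl T).sub_left ((Commute.one_left T).smul_left ε))).pow_left _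
    have hx' : (shiftT T ε ^ (M + 1)) x' = 0 := hTbij.1 (by
      rw [map_zero, ← Module.End.mul_apply, ← hc.eq, Module.End.mul_apply, hx])
    rw [pow_succ', Module.End.mul_apply, shiftT_apply, map_sub, map_smul, smul_eq_mul, hT]
    have h1 := ih (shiftT T ε x') z (by rw [← Module.End.mul_apply, ← pow_succ, hx'])
    rw [shiftT_apply, map_sub, map_smul, LinearMap.sub_apply, LinearMap.smul_apply, smul_eq_mul] at h1
    linear_combination (-ε) * h1 - B x' ((shiftT T ε ^ M) z) * hε

theorem isCompl_ker_range [FiniteDimensional F V] {M : ℕ} (hM : finrank F V ≤ M) (C : Module.End F V) :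
    IsCompl (LinearMap.ker (C ^ M)) (LinearMap.range (C ^ M)) := by
  have hd : Disjoint (LinearMap.ker (C ^ M)) (LinearMap.range (C ^ M)) := by
    rw [Submodule.disjoint_def]
    rintro _ hx ⟨y, rfl⟩
    rw [LinearMap.mem_ker, ← Module.End.mul_apply, ← pow_add] at hx
    have h1 : y ∈ LinearMap.ker (C ^ (M + M)) := hx
    rw [Module.End.ker_pow_eq_ker_pow_finrank_of_le (f := C) (by omega),
      ← Module.End.ker_pow_eq_ker_pow_finrank_of_le (f := C) hM] at h1
    exact h1
  refine ⟨hd, ?_⟩
  rw [codisjoint_iff]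
  refine Submodule.eq_top_of_finrank_eq ?_
  have h1 := Submodule.finrank_sup_add_finrank_inf_eq (LinearMap.ker (C ^ M)) (LinearMap.range (C ^ M))
  rw [hd.eq_bot, finrank_bot, add_zero] at h1
  rw [h1, add_comm]
  exact (C ^ M).finrank_range_add_finrank_ker

theorem ker_le_range [FiniteDimensional F V] (h2 : (2 : F) ≠ 0) (hε : ε * ε = 1) (M : ℕ) :
    LinearMap.ker (shiftT T (-ε) ^ M) ≤ LinearMap.range (shiftT T ε ^ M) := by
  set K := LinearMap.ker (shiftT T (-ε) ^ M)
  have hinv : ∀ x ∈ K, shiftT T ε x ∈ K := fun x hx => by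
    rw [LinearMap.mem_ker] at hx ⊢
    rw [← Module.End.mul_apply, ((commute_shiftT T (-ε) ε).pow_left M).eq, Module.End.mul_apply, hx, map_zero]
  have hinj : Function.Injective ((shiftT T ε).restrict hinv) := by
    rw [injective_iff_map_eq_zero]
    intro x hx
    have h0 : shiftT T ε (x : V) = 0 := congrArg Subtype.val hx
    have hk : ∀ k : ℕ, (shiftT T (-ε) ^ k) (x : V) = (2 * ε) ^ k • (x : V) := fun k => by
      induction k with
      | zero => simp
      | succ k ih =>
        rw [pow_succ', Module.End.mul_apply, ih, map_smul, shiftT_apply,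
          show T (x : V) = ε • (x : V) from sub_eq_zero.1 h0, ← sub_smul, smul_smul]
        congr 1; ring
    have h1 : (2 * ε) ^ M • (x : V) = 0 := by rw [← hk]; exact LinearMap.mem_ker.1 x.2
    exact Subtype.ext ((smul_eq_zero.1 h1).resolve_left
      (pow_ne_zero _ (mul_ne_zero h2 (left_ne_zero_of_mul_eq_one hε))))
  intro x hx
  obtain ⟨y, hy⟩ := LinearMap.injective_iff_surjective.1
    (Module.End.iterate_injective hinj M) ⟨x, hx⟩
  refine ⟨y.1, ?_⟩
  have := congrArg Subtype.val hy
  rw [Module.End.pow_restrict] at this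
  exact this

/-- Two forms invariant under `T`, with the same codes on the eigenspaces for `±1`. -/
theorem good_of_codes [Finite F] [Finite V] [FiniteDimensional F V] (h2 : (2 : F) ≠ 0) (hα : α ≠ 0)
    (hB : IsSympForm B) (hB' : IsSympForm B') (hT : ∀ x y, B (T x) (T y) = B x y)
    (hT' : ∀ x y, B' (T x) (T y) = B' x y) {k : ℕ} (hk : k ≠ 0) (hTk : T ^ k = 1) {M : ℕ} (hM1 : 1 ≤ M)
    (hM : finrank F V ≤ M) {s t : ℕ → Bool}
    (hs : ∀ C, (C = B ∨ C = B') → HasCode (restr C (LinearMap.ker (shiftT T 1 ^ M)))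
      (T.restrict fun _ h => shiftT_pow_mem h) 1 α M s)
    (ht : ∀ C, (C = B ∨ C = B') → HasCode (restr C (LinearMap.ker (shiftT T (-1) ^ M)))
      (T.restrict fun _ h => shiftT_pow_mem h) (-1) α M t) : Good T B B' := by
  have hTbij : Function.Bijective T := by
    have hu : IsUnit T := IsUnit.of_pow_eq_one hTk hk
    exact (Module.End.isUnit_iff _).1 hu
  set K := LinearMap.ker (shiftT T 1 ^ M) with hK
  set R := LinearMap.range (shiftT T 1 ^ M) with hR
  have hc : IsCompl K R := isCompl_ker_range hM _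
  have hperp : ∀ {C : V →ₗ[F] V →ₗ[F] F}, (∀ x y, C (T x) (T y) = C x y) → ∀ x ∈ K, ∀ y ∈ R, C x y = 0 := by
    rintro C hC x hx _ ⟨z, rfl⟩
    exact perp_ker_range hTbij hC (one_mul 1) M x z hx
  refine GLFlags.SympConj.good_glue hB hB' hc (fun _ h => shiftT_pow_mem h) (fun _ h => shiftT_pow_mem_range h)
    (hperp hT) (hperp hT') ?_ ?_
  · refine good_of_code h2 hα (one_mul 1) (N := M) ?_ (hs B (Or.inl rfl)) (hs B' (Or.inr rfl))
    refine LinearMap.ext fun x => Subtype.ext ?_
    rw [coe_shiftT_restrict_pow]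
    exact x.2
  · set T₁ : Module.End F R := T.restrict fun _ h => shiftT_pow_mem_range h with hT₁
    have hR1 : ∀ {C : V →ₗ[F] V →ₗ[F] F}, IsSympForm C → (∀ x y, C (T x) (T y) = C x y) →
        IsSympForm (restr C R) := fun hC h =>
      GLFlags.SympConj.restr_nondeg hC hc.symm fun x hx y hy => hC.comm_eq_zero.1 (hperp h y hy x hx)
    have hcoe : ∀ (c : F) (m : ℕ) (x : R), (((shiftT T₁ c ^ m) x : R) : V) = (shiftT T c ^ m) (x : V) :=
      fun c m => by
      induction m with
      | zero => intro x; rfl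
      | succ m ih => intro x; rw [pow_succ, Module.End.mul_apply, ih, pow_succ, Module.End.mul_apply]; rfl
    have hpowT : ∀ (m : ℕ) (x : R), (((T₁ ^ m) x : R) : V) = (T ^ m) (x : V) := fun m => by
      induction m with
      | zero => intro x; rfl
      | succ m ih => intro x; rw [pow_succ, Module.End.mul_apply, ih, pow_succ, Module.End.mul_apply]; rfl
    set K' := LinearMap.ker (shiftT T₁ (-1) ^ M) with hK'
    set R' := LinearMap.range (shiftT T₁ (-1) ^ M) with hR'
    have hM' : finrank F R ≤ M := (Submodule.finrank_le _).trans hM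
    have hc' : IsCompl K' R' := isCompl_ker_range hM' _
    have hT₁bij : Function.Bijective T₁ := by
      have hi : Function.Injective T₁ := fun x y h => Subtype.ext (hTbij.1 (congrArg Subtype.val h))
      exact ⟨hi, LinearMap.injective_iff_surjective.1 hi⟩
    have hperp' : ∀ {C : V →ₗ[F] V →ₗ[F] F}, (∀ x y, C (T x) (T y) = C x y) →
        ∀ x ∈ K', ∀ y ∈ R', restr C R x y = 0 := by
      rintro C hC x hx _ ⟨z, rfl⟩
      exact perp_ker_range (B := restr C R) hT₁bij (fun x y => hC _ _) (by norm_num) M x z hx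
    refine GLFlags.SympConj.good_glue (hR1 hB hT) (hR1 hB' hT') hc' (fun _ h => shiftT_pow_mem h)
      (fun _ h => shiftT_pow_mem_range h) (hperp' hT) (hperp' hT') ?_ ?_
    · have hmem : ∀ x : LinearMap.ker (shiftT T (-1) ^ M), (x : V) ∈ R :=
        fun x => ker_le_range h2 (one_mul 1) M x.2
      let ψ : LinearMap.ker (shiftT T (-1) ^ M) ≃ₗ[F] K' :=
        { toFun := fun x => ⟨⟨x.1, hmem x⟩, Subtype.ext (by rw [hcoe]; exact x.2)⟩
          map_add' := fun x y => rfl
          map_smul' := fun c x => rfl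
          invFun := fun y => ⟨y.1.1, by
            show (shiftT T (-1) ^ M) (y.1.1) = 0
            rw [← hcoe, LinearMap.mem_ker.1 y.2]; rfl⟩
          left_inv := fun x => rfl
          right_inv := fun y => rfl }
      refine good_of_code h2 hα (ε := -1) (by norm_num) (N := M) ?_
        ((ht B (Or.inl rfl)).map ψ (fun x y => rfl) (fun x => rfl))
        ((ht B' (Or.inr rfl)).map ψ (fun x y => rfl) (fun x => rfl))
      refine LinearMap.ext fun x => Subtype.ext ?_
      rw [coe_shiftT_restrict_pow]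
      exact x.2
    · haveI : Finite R := inferInstance
      refine GLFlags.SympConj.good_of_regular
        (GLFlags.SympConj.restr_nondeg (hR1 hB hT) hc'.symm fun x hx y hy =>
          (hR1 hB hT).comm_eq_zero.1 (hperp' hT y hy x hx))
        (GLFlags.SympConj.restr_nondeg (hR1 hB' hT') hc'.symm fun x hx y hy =>
          (hR1 hB' hT').comm_eq_zero.1 (hperp' hT' y hy x hx))
        hk ?_ (fun x y => hT _ _) (fun x y => hT' _ _) fun z hz => ?_
      · rw [Module.End.pow_restrict]
        refine LinearMap.ext fun x => Subtype.ext (Subtype.ext ?_)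
        show (((T₁ ^ k) x.1 : R) : V) = _
        rw [hpowT, hTk]; rfl
      · obtain ⟨⟨x, hxR⟩, hxR'⟩ := z
        have hTT : T (T x) = x := congrArg (fun w => w.1.1) hz
        set y : R := shiftT T₁ 1 ⟨x, hxR⟩ with hy
        have hyK : y ∈ K' := by
          have h1 : shiftT T₁ (-1) y = 0 := Subtype.ext (by
            show T (T x - (1 : F) • x) - (-1 : F) • (T x - (1 : F) • x) = 0
            rw [one_smul, neg_one_smul, map_sub, hTT, sub_neg_eq_add, sub_add_sub_cancel', sub_self])
          rw [LinearMap.mem_ker, show M = M - 1 + 1 by omega, pow_succ, Module.End.mul_apply, h1, map_zero]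
        have hyR : y ∈ R' := R'.sub_mem (shiftT_pow_mem_range hxR') (R'.smul_mem _ hxR')
        have h0 : T x - (1 : F) • x = 0 := congrArg Subtype.val (Submodule.disjoint_def.1 hc'.disjoint _ hyK hyR)
        have hxK : x ∈ K := by
          rw [hK, LinearMap.mem_ker, show M = M - 1 + 1 by omega, pow_succ, Module.End.mul_apply,
            shiftT_apply, h0, map_zero]
        exact Subtype.ext (Subtype.ext (Submodule.disjoint_def.1 hc.disjoint _ hxK hxR))

end Cfsg.Agent.Lib.ClassesSp
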