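import Cfsg.Agent.Lib.ClassesSp.Local
import Cfsg.Agent.Lib.ClassesSp.Arith

/-!
The class invariant of a symplectic matrix in odd characteristic, and the upper bound for the number of
conjugacy classes.
-/

set_option autoImplicit false
set_option linter.unusedSectionVars false
set_option linter.style.haveILetI false

namespace Cfsg.Agent.Lib.ClassesSp

open Polynomial Module
open Cfsg.Agent.Lib.ClassesGLBound
open Cfsg.Agent.Lib.ClassesSL
open Cfsg.Agent.Lib.Symplectic (IsSympForm restr stdForm)

universe u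

variable {F : Type u} [Field F] [Fintype F] {n : ℕ}

/-- The linear map of a symplectic matrix. -/
noncomputable def lin (x : Matrix.symplecticGroup (Fin n) F) : Module.End F (Fin n ⊕ Fin n → F) :=
  Matrix.toLin' (x : Matrix (Fin n ⊕ Fin n) (Fin n ⊕ Fin n) F)

theorem lin_isometry (x : Matrix.symplecticGroup (Fin n) F) (u v : Fin n ⊕ Fin n → F) :
    stdForm n F (lin x u) (lin x v) = stdForm n F u v := Symplectic.mem_sp_iff.1 x.2 u v

theorem lin_bijective (x : Matrix.symplecticGroup (Fin n) F) : Function.Bijective (lin x) :=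
  (Symplectic.spLE x).bijective

theorem lin_pow (x : Matrix.symplecticGroup (Fin n) F) (k : ℕ) : lin (x ^ k) = lin x ^ k := by
  rw [lin, lin, SubmonoidClass.coe_pow, Matrix.toLin'_pow]

/-- The generalised eigenspace. -/
noncomputable abbrev eig (x : Matrix.symplecticGroup (Fin n) F) (ε : F) : Submodule F (Fin n ⊕ Fin n → F) :=
  LinearMap.ker (shiftT (lin x) ε ^ (n + n))

/-- The matrix on the generalised eigenspace. -/
noncomputable abbrev linE (x : Matrix.symplecticGroup (Fin n) F) (ε : F) : Module.End F (eig x ε) :=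
  (lin x).restrict (p := eig x ε) (q := eig x ε) fun _ h => shiftT_pow_mem h

theorem finrank_space : finrank F (Fin n ⊕ Fin n → F) = n + n := by
  rw [Symplectic.finrank_std]; omega

theorem eig_symp (x : Matrix.symplecticGroup (Fin n) F) {ε : F} (hε : ε * ε = 1) :
    IsSympForm (restr (stdForm n F) (eig x ε)) := by
  refine GLFlags.SympConj.restr_nondeg (Symplectic.isSympForm_stdForm n F)
    (isCompl_ker_range finrank_space.le _) ?_
  rintro u hu _ ⟨z, rfl⟩
  exact perp_ker_range (lin_bijective x) (lin_isometry x) hε _ u z hu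

theorem coe_linE_pow (x : Matrix.symplecticGroup (Fin n) F) (ε c : F) (k : ℕ) (v : eig x ε) :
    (((shiftT (linE x ε) c ^ k) v : eig x ε) : Fin n ⊕ Fin n → F) = (shiftT (lin x) c ^ k) v.1 :=
  coe_shiftT_restrict_pow _ c k v

theorem eig_nil (x : Matrix.symplecticGroup (Fin n) F) (ε : F) :
    shiftT (linE x ε) ε ^ (n + n) = 0 :=
  LinearMap.ext fun v => Subtype.ext (by rw [coe_linE_pow]; exact v.2)

theorem card_eq_kerCard (x : Matrix.symplecticGroup (Fin n) F) (ε : F) (k : ℕ) :
    kerCard (toGL n F x) (X - C ε) k =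
      Nat.card {v : eig x ε // (shiftT (linE x ε) ε ^ k) v = 0} := by
  have h1 : Nat.card {v : eig x ε // (shiftT (linE x ε) ε ^ k) v = 0} =
      Nat.card {v : Fin n ⊕ Fin n → F // (shiftT (lin x) ε ^ k) v = 0} := by
    refine Nat.card_congr
      { toFun := fun v => ⟨v.1.1, by rw [← coe_linE_pow, v.2]; rfl⟩
        invFun := fun v => ⟨⟨v.1, ?_⟩, Subtype.ext (by rw [coe_linE_pow]; exact v.2)⟩
        left_inv := fun v => rfl
        right_inv := fun v => rfl }
    show (shiftT (lin x) ε ^ (n + n)) v.1 = 0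
    rcases le_total k (n + n) with hk | hk
    · obtain ⟨c, hc⟩ := Nat.exists_eq_add_of_le hk
      rw [hc, add_comm, pow_add, Module.End.mul_apply, v.2, map_zero]
    · have h := v.2
      rw [← LinearMap.mem_ker] at h ⊢
      rw [Module.End.ker_pow_eq_ker_pow_finrank_of_le (f := shiftT (lin x) ε) (finrank_space.le.trans hk)] at h
      rw [Module.End.ker_pow_eq_ker_pow_finrank_of_le (f := shiftT (lin x) ε) finrank_space.le]
      exact h
  rw [h1, kerCard]
  let φ : (Fin n ⊕ Fin n → F) ≃ₗ[F] (Fin (n + n) → F) := LinearEquiv.funCongrLeft F F finSumFinEquiv.symm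
  have hφ : ∀ (j : ℕ) (v : Fin n ⊕ Fin n → F),
      ((Matrix.toLin' (toGL n F x : Matrix (Fin (n + n)) (Fin (n + n)) F) - ε • 1) ^ j) (φ v) =
        φ ((shiftT (lin x) ε ^ j) v) := by
    intro j
    induction j with
    | zero => intro v; rfl
    | succ j ih =>
      intro v
      rw [pow_succ, pow_succ, Module.End.mul_apply, Module.End.mul_apply, ← ih]
      congr 1
      rw [LinearMap.sub_apply, shiftT_apply, map_sub, map_smul, coe_toGL, ← JordanType.reindex_intertwine]
      rfl
  refine (Nat.card_congr (φ.toEquiv.subtypeEquiv fun v => ?_)).symm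
  show _ ↔ aeval (Matrix.toLin' (toGL n F x : Matrix (Fin (n + n)) (Fin (n + n)) F)) ((X - C ε) ^ k) (φ v) = 0
  rw [map_pow, map_sub, aeval_X, aeval_C, Algebra.algebraMap_eq_smul_one, hφ, LinearEquiv.map_eq_zero_iff]

theorem card_ker_cayley {V : Type*} [AddCommGroup V] [Module F V] {T D : Module.End F V} {ε : F} {N : ℕ}
    (h2 : (2 : F) ≠ 0) (hε : ε * ε = 1) (hnil : shiftT T ε ^ N = 0) (hD : D * shiftT T (-ε) = shiftT T ε)
    (k : ℕ) : Nat.card {v : V // (shiftT T ε ^ k) v = 0} = Nat.card {v : V // (D ^ k) v = 0} := by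
  obtain ⟨u, hu⟩ := isUnit_shiftT_neg h2 hε hnil
  have e : D = shiftT T ε * (u⁻¹ : (Module.End F V)ˣ) := by
    rw [← hD, ← hu, mul_assoc, u.mul_inv, mul_one]
  have hc : Commute D (shiftT T (-ε)) := by
    rw [e]
    refine (commute_shiftT T ε (-ε)).mul_left ?_
    rw [← hu]; exact (Commute.refl (u : Module.End F V)).units_inv_left
  have hb : Function.Bijective (shiftT T (-ε) ^ k : Module.End F V) :=
    (Module.End.isUnit_iff _).1 (IsUnit.pow k ⟨u, hu⟩)
  refine Nat.card_congr ((Equiv.ofBijective _ hb).subtypeEquiv fun v => ?_)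
  rw [Equiv.ofBijective_apply, ← Module.End.mul_apply, ← hc.mul_pow, hD]

/-- The numbers of blocks at `ε` are the multiplicities of the elementary divisors `(X - ε) ^ e`. -/
theorem r_eq_count [DecidableEq F] (h2 : (2 : F) ≠ 0) {α : F} (hα : α ≠ 0) (x : Matrix.symplecticGroup (Fin n) F)
    {ε : F} (hε : ε * ε = 1) {D : Module.End F (eig x ε)}
    (hD : D * shiftT (linE x ε) (-ε) =
      shiftT (linE x ε) ε)
    (hskew : Skew (restr (stdForm n F) (eig x ε)) D)
    (P : NF (restr (stdForm n F) (eig x ε)) D α (n + n)) (j : Fin (n + n)) :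
    P.r ((j : ℕ) + 1) =
      Multiset.count (X - C ε) (UniqueFactorizationMonoid.normalizedFactors ((invT (toGL n F x)).1 j)) := by
  classical
  show _ = Multiset.count _ (UniqueFactorizationMonoid.normalizedFactors (tup (keyOf (toGL n F x)) (n + n) j))
  rw [← card_fibre_eq (keyOf_spec (toGL n F x)).1]
  set A := toGL n F x with hA
  have hsum : ∀ k, ∑ b : Blk P.r (n + n), min (b.1 : ℕ) k =
      ∑ i : {i // (keyOf A i).2 = X - C ε}, min (keyOf A i.1).1 k := by
    intro k
    have h := card_eq_kerCard x ε k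
    rw [card_ker_cayley h2 hε (eig_nil x ε) hD, kerCard_eq _ (irreducible_X_sub_C ε) (monic_X_sub_C ε)] at h
    have e : Nat.card {v : eig x ε // (D ^ k) v = 0} = Nat.card (LinearMap.ker (D ^ k)) := rfl
    rw [e, Module.natCard_eq_pow_finrank (K := F), Nat.card_eq_fintype_card, natDegree_X_sub_C, one_mul] at h
    rw [← (P.coords hα hskew).finrank_ker_pow, ← Nat.pow_right_injective Fintype.one_lt_card h,
      ← Finset.sum_filter,
      Finset.sum_subtype (Finset.univ.filter fun i => (keyOf A i).2 = X - C ε)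
        (p := fun i => (keyOf A i).2 = X - C ε) (fun i => by simp)]
    exact Finset.sum_congr rfl fun i _ => min_comm _ _
  rw [← P.card_blocks ((j : ℕ) + 1) j.2, JordanType.count_eq hsum (Nat.le_add_left 1 _), ← Fintype.card_subtype]
  refine Fintype.card_congr
    { toFun := fun i => ⟨i.1.1, Prod.ext i.2 i.1.2⟩
      invFun := fun i => ⟨⟨i.1, congrArg Prod.snd i.2⟩, congrArg Prod.fst i.2⟩
      left_inv := fun i => rfl
      right_inv := fun i => rfl }

/-- The signs at `ε`. -/
theorem exists_sign (h2 : (2 : F) ≠ 0) {α : F} (hα : ¬ IsSquare α) (x : Matrix.symplecticGroup (Fin n) F)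
    {ε : F} (hε : ε * ε = 1) : ∃ s : ℕ → Bool,
      HasCode (restr (stdForm n F) (eig x ε))
        (linE x ε) ε α (n + n) s ∧
      (∀ e, s e = true → Even e ∧ 1 ≤ e ∧ e ≤ n + n) ∧
      (∀ j : Fin (n + n), s ((j : ℕ) + 1) = true → ((invT (toGL n F x)).1 j).eval ε = 0) ∧
      ∀ j : Fin (n + n), Even (j : ℕ) → Even (rootMultiplicity ε ((invT (toGL n F x)).1 j)) := by
  classical
  obtain ⟨s, D, hD, hskew, P, hP⟩ := exists_code (V := eig x ε) h2 hα (eig_symp x hε)
    (fun u v => lin_isometry x u.1 v.1) hε (eig_nil x ε)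
  have hα0 : α ≠ 0 := fun h => hα (h ▸ IsSquare.zero)
  subst hP
  refine ⟨P.s, ⟨D, hD, hskew, P, rfl⟩, fun e he => ?_, fun j hj => ?_, fun j hj => ?_⟩
  · obtain ⟨h1, h0⟩ := P.supp e he
    exact ⟨h1, P.bound e (by omega)⟩
  · have h0 := (P.supp _ hj).2
    rw [r_eq_count h2 hα0 x hε hD hskew P j, Multiset.count_pos] at h0
    exact dvd_iff_isRoot.1 (UniqueFactorizationMonoid.dvd_of_mem_normalizedFactors h0)
  · have h0 := P.par ((j : ℕ) + 1) hj.add_one
    rw [r_eq_count h2 hα0 x hε hD hskew P j] at h0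
    have hne : (invT (toGL n F x)).1 j ≠ 0 := ((invT (toGL n F x)).2.1 j).1.ne_zero
    convert h0 using 1
    refine (UniqueFactorizationMonoid.count_normalizedFactors_eq (irreducible_X_sub_C ε)
      (monic_X_sub_C ε).normalize_eq_self (pow_rootMultiplicity_dvd _ ε) ?_).symm
    intro hdvd
    have := (le_rootMultiplicity_iff hne).2 hdvd
    omega

theorem odd_component (h2 : (2 : F) ≠ 0) {g : F[X]} (h : SD g) (h1 : Even (rootMultiplicity 1 g))
    (h1' : Even (rootMultiplicity (-1) g)) : Even g.natDegree ∧ g.coeff 0 = 1 := by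
  obtain ⟨g1, hg1, hr1⟩ := exists_eq_pow_rootMultiplicity_mul_and_not_dvd g h.1.ne_zero 1
  have hne1 : g1 ≠ 0 := fun e => hr1 (e ▸ dvd_zero _)
  obtain ⟨g2, hg2, hr2⟩ := exists_eq_pow_rootMultiplicity_mul_and_not_dvd g1 hne1 (-1)
  have hb : rootMultiplicity (-1) g = rootMultiplicity (-1) g1 := by
    conv_lhs => rw [hg1]
    rw [rootMultiplicity_mul (mul_ne_zero (pow_ne_zero _ (X_sub_C_ne_zero _)) hne1),
      rootMultiplicity_eq_zero, zero_add]
    rw [IsRoot, eval_pow, eval_sub, eval_X, eval_C]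
    exact pow_ne_zero _ fun h' => h2 (by linear_combination -h')
  rw [hb] at h1'
  set a := rootMultiplicity 1 g
  set b := rootMultiplicity (-1) g1
  have hge : g = (X - C 1) ^ a * ((X - C (-1)) ^ b * g2) := by rw [← hg2]; exact hg1
  have hm1 : ((X - C (1 : F)) ^ a).Monic := (monic_X_sub_C _).pow _
  have hm2 : ((X - C (-1 : F)) ^ b).Monic := (monic_X_sub_C _).pow _
  have hg2m : g2.Monic := hm2.of_mul_monic_left (hm1.of_mul_monic_left (hge ▸ h.1))
  have hg20 : g2.coeff 0 ≠ 0 := fun e => h.2.1 (by rw [hge, mul_coeff_zero, mul_coeff_zero, e]; simp)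
  have hsd : rdual g2 = g2 := by
    have e := h.2.2
    rw [hge, rdual_mul, rdual_mul, rdual_pow, rdual_pow, rdual_X_sub_C (one_mul 1),
      rdual_X_sub_C (show (-1 : F) * -1 = 1 by norm_num)] at e
    exact mul_left_cancel₀ (pow_ne_zero _ (X_sub_C_ne_zero _)) (mul_left_cancel₀ (pow_ne_zero _ (X_sub_C_ne_zero _)) e)
  have hev : ∀ c : F, c * c = 1 → g2.eval c ≠ 0 → c ^ g2.natDegree = g2.coeff 0 := by
    intro c hc hne
    have e := aeval_reverse (F := F) (E := F) hc g2
    have e2 := congrArg (Polynomial.eval c) hsd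
    rw [rdual, eval_mul, eval_C] at e2
    simp only [coe_aeval_eq_eval] at e
    rw [e, ← mul_assoc] at e2
    have h3 : (g2.coeff 0)⁻¹ * c ^ g2.natDegree = 1 := mul_right_cancel₀ hne (e2.trans (one_mul _).symm)
    rw [inv_mul_eq_one₀ hg20] at h3
    exact h3.symm
  have hn1 : g2.eval 1 ≠ 0 := fun e => hr1 (by
    rw [hg2]; exact (dvd_iff_isRoot.2 e).mul_left _)
  have hn2 : g2.eval (-1) ≠ 0 := fun e => hr2 (dvd_iff_isRoot.2 e)
  have hc0 : g2.coeff 0 = 1 := by rw [← hev 1 (one_mul 1) hn1, one_pow]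
  have hdeg : Even g2.natDegree := by
    have := hev (-1) (by norm_num) hn2
    rw [hc0] at this
    rcases Nat.even_or_odd g2.natDegree with he | he
    · exact he
    · rw [he.neg_one_pow] at this
      exact absurd (show (2 : F) = 0 by linear_combination -this) h2
  refine ⟨?_, ?_⟩
  · rw [hge, hm1.natDegree_mul (hm2.mul hg2m), hm2.natDegree_mul hg2m, natDegree_pow, natDegree_pow,
      natDegree_X_sub_C, natDegree_X_sub_C, mul_one, mul_one]
    exact h1.add (h1'.add hdeg)
  · rw [hge, coeff_zero_eq_eval_zero, eval_mul, eval_mul, eval_pow, eval_pow, ← coeff_zero_eq_eval_zero g2, hc0]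
    simp [h1.neg_one_pow]

theorem sum_fin_pairs (f : ℕ → ℕ) :
    ∀ n, ∑ j ∈ Finset.range (n + n), f j = ∑ i ∈ Finset.range n, (f (2 * i) + f (2 * i + 1))
  | 0 => rfl
  | n + 1 => by
    rw [Finset.sum_range_succ _ n, ← sum_fin_pairs f n, show n + 1 + (n + 1) = n + n + 1 + 1 by omega,
      Finset.sum_range_succ, Finset.sum_range_succ, two_mul, add_assoc]

theorem card_conjClasses_le (h2 : (2 : F) ≠ 0) :
    Nat.card (ConjClasses (Matrix.symplecticGroup (Fin n) F)) ≤ kA (Fintype.card F) n n := by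
  classical
  obtain ⟨α, hα⟩ := FiniteField.exists_nonsquare (F := F) fun h => h2 (by
    have := ringChar.Nat.cast_ringChar (R := F)
    rw [h] at this; exact_mod_cast this)
  have hα0 : α ≠ 0 := fun h => hα (h ▸ IsSquare.zero)
  let G := Matrix.symplecticGroup (Fin n) F
  choose sp hsp using fun x : G => exists_sign h2 hα x (ε := 1) (one_mul 1)
  choose sm hsm using fun x : G => exists_sign h2 hα x (ε := -1) (by norm_num)
  let t : G → Fin (n + n) → F[X] := fun x => (invT (toGL n F x)).1
  have hSD : ∀ x j, SD (t x j) := fun x j =>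
    ⟨((invT (toGL n F x)).2.1 j).1, ((invT (toGL n F x)).2.1 j).2, invT_rdual _ (isConj_inv x) j⟩
  let ev : Fin n → Fin (n + n) := fun i => ⟨2 * i, by omega⟩
  let od : Fin n → Fin (n + n) := fun i => ⟨2 * i + 1, by omega⟩
  let code : G → Seq F n n := fun x => ⟨(fun i => t x (ev i),
      fun i => (t x (od i), sp x (2 * (i : ℕ) + 2), sm x (2 * (i : ℕ) + 2))),
    ⟨fun i => by
      obtain ⟨h1, h2⟩ := odd_component h2 (hSD x (ev i)) ((hsp x).2.2.2 _ ⟨i, by simp [ev]; omega⟩)
        ((hsm x).2.2.2 _ ⟨i, by simp [ev]; omega⟩)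
      exact ⟨hSD x _, h1, h2⟩,
    fun i => ⟨hSD x _, fun h => (hsp x).2.2.1 (od i) h, fun h => (hsm x).2.2.1 (od i) h⟩⟩, by
      have hsum := (invT (toGL n F x)).2.2
      let f : ℕ → ℕ := fun j => if h : j < n + n then (j + 1) * (t x ⟨j, h⟩).natDegree else 0
      have e : ∑ j : Fin (n + n), f j = n + n := by
        refine Eq.trans (Finset.sum_congr rfl fun j _ => ?_) hsum
        simp [f, t]
      rw [Fin.sum_univ_eq_sum_range f, sum_fin_pairs, ← Fin.sum_univ_eq_sum_range] at e
      have e2 : 2 * wt (fun i => t x (ev i), fun i => (t x (od i), sp x (2 * (i : ℕ) + 2), sm x (2 * (i : ℕ) + 2)))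
          = n + n := by
        refine Eq.trans ?_ e
        rw [wt, Finset.mul_sum]
        refine Finset.sum_congr rfl fun i _ => ?_
        have hev := (odd_component h2 (hSD x (ev i)) ((hsp x).2.2.2 _ ⟨i, by simp [ev]; omega⟩)
          ((hsm x).2.2.2 _ ⟨i, by simp [ev]; omega⟩)).1
        simp only [f, dif_pos (show 2 * (i : ℕ) < n + n by omega), dif_pos (show 2 * (i : ℕ) + 1 < n + n by omega)]
        obtain ⟨c, hc⟩ := hev
        show 2 * ((2 * (i : ℕ) + 1) * ((t x (ev i)).natDegree / 2) + ((i : ℕ) + 1) * (t x (od i)).natDegree) =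
          (2 * (i : ℕ) + 1) * (t x (ev i)).natDegree + (2 * (i : ℕ) + 1 + 1) * (t x (od i)).natDegree
        rw [hc, show (c + c) / 2 = c by omega]
        ring
      omega⟩
  haveI := (card_Seq (F := F) h2 n n).1
  have hcode : ∀ x y, code x = code y → IsConj x y := by
    intro x y h
    have hA : ∀ i, t x (ev i) = t y (ev i) := fun i => congrFun (congrArg (fun p => p.1.1) h) i
    have hB : ∀ i, t x (od i) = t y (od i) ∧ sp x (2 * (i : ℕ) + 2) = sp y (2 * (i : ℕ) + 2) ∧
        sm x (2 * (i : ℕ) + 2) = sm y (2 * (i : ℕ) + 2) := fun i => by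
      have := congrFun (congrArg (fun p => p.1.2) h) i
      simpa [code] using this
    have ht : invT (toGL n F x) = invT (toGL n F y) := Subtype.ext (funext fun j => by
      rcases Nat.even_or_odd (j : ℕ) with ⟨i, hi⟩ | ⟨i, hi⟩
      · have := hA ⟨i, by omega⟩
        rwa [show ev ⟨i, by omega⟩ = j from Fin.ext (by simp [ev]; omega)] at this
      · have := (hB ⟨i, by omega⟩).1
        rwa [show od ⟨i, by omega⟩ = j from Fin.ext (by simp [od]; omega)] at this)
    have hagree : ∀ a b : ℕ → Bool, (∀ e, a e = true → Even e ∧ 1 ≤ e ∧ e ≤ n + n) →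
        (∀ e, b e = true → Even e ∧ 1 ≤ e ∧ e ≤ n + n) → (∀ i : Fin n, a (2 * i + 2) = b (2 * i + 2)) → a = b := by
      intro a b ha hb hab
      funext e
      by_cases he : Even e ∧ 1 ≤ e ∧ e ≤ n + n
      · obtain ⟨⟨c, hc⟩, h1, h2'⟩ := he
        have := hab ⟨c - 1, by omega⟩
        rwa [show 2 * (c - 1) + 2 = e by omega] at this
      · rw [Bool.eq_false_iff.2 fun h => he (ha e h), Bool.eq_false_iff.2 fun h => he (hb e h)]
    have hsp' := hagree _ _ (hsp x).2.1 (hsp y).2.1 fun i => (hB i).2.1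
    have hsm' := hagree _ _ (hsm x).2.1 (hsm y).2.1 fun i => (hB i).2.2
    obtain ⟨c, hc⟩ := isConj_iff.1 (invT_eq_iff.1 ht)
    let φ : (Fin n ⊕ Fin n → F) ≃ₗ[F] (Fin (n + n) → F) := LinearEquiv.funCongrLeft F F finSumFinEquiv.symm
    let cL : (Fin (n + n) → F) ≃ₗ[F] (Fin (n + n) → F) :=
      LinearMap.GeneralLinearGroup.generalLinearEquiv F _ (Matrix.GeneralLinearGroup.toLin c)
    let g : (Fin n ⊕ Fin n → F) ≃ₗ[F] (Fin n ⊕ Fin n → F) := φ.trans (cL.trans φ.symm)
    have hgT : ∀ v, g (lin x v) = lin y (g v) := by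
      intro v
      apply φ.injective
      show φ (φ.symm (cL (φ (lin x v)))) = φ (lin y (φ.symm (cL (φ v))))
      rw [φ.apply_symm_apply, lin, lin, JordanType.reindex_intertwine, JordanType.reindex_intertwine,
        φ.apply_symm_apply, ← coe_toGL, ← coe_toGL, ← hc]
      show Matrix.toLin' (c : Matrix (Fin (n + n)) (Fin (n + n)) F) (Matrix.toLin' _ _) =
        Matrix.toLin' _ (Matrix.toLin' (c : Matrix (Fin (n + n)) (Fin (n + n)) F) _)
      simp only [Matrix.toLin'_apply, Matrix.mulVec_mulVec, ← Units.val_mul, inv_mul_cancel_right]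
      rfl
    have hstd := Symplectic.isSympForm_stdForm n F
    let B' := (stdForm n F).compl₁₂ (g : (Fin n ⊕ Fin n → F) →ₗ[F] _) (g : (Fin n ⊕ Fin n → F) →ₗ[F] _)
    have hB' : ∀ u v, B' u v = stdForm n F (g u) (g v) := fun u v => rfl
    have hB's : IsSympForm B' := ⟨fun u => hstd.self _, fun u hu => g.injective (by
      rw [map_zero]
      exact hstd.nondeg _ fun v => by
        obtain ⟨w, rfl⟩ := g.surjective v
        exact hu w)⟩
    have heq : ∀ (ε : F) (s : ℕ → Bool),
        HasCode (restr (stdForm n F) (eig y ε))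
          (linE y ε) ε α (n + n) s →
        HasCode (restr B' (eig x ε))
          (linE x ε) ε α (n + n) s := by
      intro ε s hcodey
      have hpow : ∀ (k : ℕ) v, g ((shiftT (lin x) ε ^ k) v) = (shiftT (lin y) ε ^ k) (g v) := fun k => by
        induction k with
        | zero => intro v; rfl
        | succ k ih =>
          intro v
          rw [pow_succ, pow_succ, Module.End.mul_apply, Module.End.mul_apply, ih, shiftT_apply, shiftT_apply,
            map_sub, map_smul, hgT]
      let ψ : eig y ε ≃ₗ[F] eig x ε :=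
        { toFun := fun v => ⟨g.symm v.1, g.injective (by
            rw [hpow, g.apply_symm_apply, map_zero]; exact v.2)⟩
          map_add' := fun v w => Subtype.ext (map_add g.symm _ _)
          map_smul' := fun a v => Subtype.ext (map_smul g.symm _ _)
          invFun := fun v => ⟨g v.1, by
            show (shiftT (lin y) ε ^ (n + n)) (g v.1) = 0
            rw [← hpow, show (shiftT (lin x) ε ^ (n + n)) v.1 = 0 from v.2, map_zero]⟩
          left_inv := fun v => Subtype.ext (g.apply_symm_apply _)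
          right_inv := fun v => Subtype.ext (g.symm_apply_apply _) }
      refine hcodey.map ψ (fun u v => ?_) (fun v => Subtype.ext ?_)
      · show B' (g.symm u.1) (g.symm v.1) = _
        rw [hB', g.apply_symm_apply, g.apply_symm_apply]; rfl
      · show g.symm (lin y v.1) = lin x (g.symm v.1)
        rw [g.symm_apply_eq, hgT, g.apply_symm_apply]
    haveI : Finite G := Finite.of_injective (fun z : G => z.1) Subtype.val_injective
    rcases Nat.eq_zero_or_pos n with hn | hn
    · have : x = y := Subtype.ext (Matrix.ext fun i => by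
        rcases i with i | i <;> exact absurd i.2 (by omega))
      subst this
      exact IsConj.refl x
    obtain ⟨e, he, hiso⟩ := good_of_codes h2 hα0 hstd hB's (lin_isometry x)
      (fun u v => by rw [hB', hB', hgT, hgT, lin_isometry])
      (k := orderOf x) (orderOf_pos x).ne'
      (by rw [← lin_pow, pow_orderOf_eq_one]; exact Matrix.toLin'_one)
      (M := n + n) (by omega) finrank_space.le (s := sp x) (t := sm x)
      (fun C hC => by
        rcases hC with rfl | rfl
        · exact (hsp x).1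
        · rw [hsp']; exact heq 1 _ (hsp y).1)
      (fun C hC => by
        rcases hC with rfl | rfl
        · exact (hsm x).1
        · rw [hsm']; exact heq (-1) _ (hsm y).1)
    let H := e.trans g
    have hH : ∀ u v, stdForm n F (H u) (H v) = stdForm n F u v := fun u v => hiso u v
    let z : G := (Symplectic.spEquiv n F).symm ⟨H, hH⟩
    have hz : ∀ v, lin z v = H v := fun v => by
      show Matrix.toLin' (LinearMap.toMatrix' H.toLinearMap) v = H v
      rw [Matrix.toLin'_toMatrix']; rfl
    refine isConj_iff.2 ⟨z, mul_inv_eq_of_eq_mul (Subtype.ext (Matrix.toLin'.injective ?_))⟩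
    refine LinearMap.ext fun v => ?_
    rw [Submonoid.coe_mul, Submonoid.coe_mul, Matrix.toLin'_mul, Matrix.toLin'_mul, LinearMap.comp_apply,
      LinearMap.comp_apply]
    show lin z (lin x v) = lin y (lin z v)
    rw [hz, hz]
    show g (e (lin x v)) = lin y (g (e v))
    rw [he, hgT]
  refine (Nat.card_le_card_of_injective (fun C : ConjClasses G => code (Quotient.out C)) fun C C' h => ?_).trans
    (card_Seq h2 n n).2
  rw [← Quotient.out_eq C, ← Quotient.out_eq C']
  exact Quotient.sound (hcode _ _ h)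

end Cfsg.Agent.Lib.ClassesSp
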